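import Cfsg.Agent.Lib.G2Seven.Torus
import Cfsg.Agent.Lib.ChevStructure.Parabolic
import Mathlib.FieldTheory.IsAlgClosed.Basic
import Mathlib.LinearAlgebra.Eigenspace.Triangularizable

/-!
An element with a singular eigenvector is conjugate into the Borel subgroup over an algebraically closed field.
-/

set_option autoImplicit false
set_option linter.unusedSectionVars false
set_option maxRecDepth 100000

namespace Cfsg.Agent.Lib.G2Seven

open Cfsg.Lie Cfsg.Agent.Lib.ChevStructure Matrix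
open scoped MatrixGroups

section Act

variable {R : Type*} [CommRing R] (t : R) (v : Fin 7 → R)

theorem act7 : xm (⟨7, by decide⟩ : Rt chevG2) t *ᵥ v =
    ![v 0 + t * v 1, v 1, v 2 + 2 * t * v 3 + t ^ 2 * v 4, v 3 + t * v 4, v 4, v 5 + t * v 6, v 6] := by
  funext i; fin_cases i <;>
    simp [xm, Xz, Az, ofList, xTab, aTab, cst_apply, Matrix.mulVec, dotProduct, Fin.sum_univ_seven] <;> ring

theorem act8 : xm (⟨8, by decide⟩ : Rt chevG2) t *ᵥ v =
    ![v 0 - t * v 2, v 1 + 2 * t * v 3 - t ^ 2 * v 5, v 2, v 3 - t * v 5, v 4 + t * v 6, v 5, v 6] := by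
  funext i; fin_cases i <;>
    simp [xm, Xz, Az, ofList, xTab, aTab, cst_apply, Matrix.mulVec, dotProduct, Fin.sum_univ_seven] <;> ring

theorem act9 : xm (⟨9, by decide⟩ : Rt chevG2) t *ᵥ v =
    ![v 0 - 2 * t * v 3 + t ^ 2 * v 6, v 1 + t * v 4, v 2 + t * v 5, v 3 - t * v 6, v 4, v 5, v 6] := by
  funext i; fin_cases i <;>
    simp [xm, Xz, Az, ofList, xTab, aTab, cst_apply, Matrix.mulVec, dotProduct, Fin.sum_univ_seven] <;> ring

theorem act10 : xm (⟨10, by decide⟩ : Rt chevG2) t *ᵥ v =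
    ![v 0 + t * v 4, v 1, v 2 - t * v 6, v 3, v 4, v 5, v 6] := by
  funext i; fin_cases i <;>
    simp [xm, Xz, Az, ofList, xTab, aTab, cst_apply, Matrix.mulVec, dotProduct, Fin.sum_univ_seven] <;> ring

theorem act11 : xm (⟨11, by decide⟩ : Rt chevG2) t *ᵥ v =
    ![v 0 - t * v 5, v 1 - t * v 6, v 2, v 3, v 4, v 5, v 6] := by
  funext i; fin_cases i <;>
    simp [xm, Xz, Az, ofList, xTab, aTab, cst_apply, Matrix.mulVec, dotProduct, Fin.sum_univ_seven] <;> ring

theorem act6 : xm (⟨6, by decide⟩ : Rt chevG2) t *ᵥ v =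
    ![v 0, v 1 + t * v 2, v 2, v 3, v 4 + t * v 5, v 5, v 6] := by
  funext i; fin_cases i <;>
    simp [xm, Xz, Az, ofList, xTab, aTab, cst_apply, Matrix.mulVec, dotProduct, Fin.sum_univ_seven]

theorem act0 : (xm (⟨0, by decide⟩ : Rt chevG2) t *ᵥ v) 6 = v 6 - t * v 1 := by
  simp [xm, Xz, Az, ofList, xTab, aTab, cst_apply, Matrix.mulVec, dotProduct, Fin.sum_univ_seven]; ring

theorem act1 : (xm (⟨1, by decide⟩ : Rt chevG2) t *ᵥ v) 6 = v 6 - t * v 2 := by
  simp [xm, Xz, Az, ofList, xTab, aTab, cst_apply, Matrix.mulVec, dotProduct, Fin.sum_univ_seven]; ring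

theorem act2 : (xm (⟨2, by decide⟩ : Rt chevG2) t *ᵥ v) 6 = v 6 - 2 * t * v 3 + t ^ 2 * v 0 := by
  simp [xm, Xz, Az, ofList, xTab, aTab, cst_apply, Matrix.mulVec, dotProduct, Fin.sum_univ_seven]; ring

theorem act3 : (xm (⟨3, by decide⟩ : Rt chevG2) t *ᵥ v) 6 = v 6 + t * v 4 := by
  simp [xm, Xz, Az, ofList, xTab, aTab, cst_apply, Matrix.mulVec, dotProduct, Fin.sum_univ_seven]; ring

theorem act4 : (xm (⟨4, by decide⟩ : Rt chevG2) t *ᵥ v) 6 = v 6 + t * v 5 := by
  simp [xm, Xz, Az, ofList, xTab, aTab, cst_apply, Matrix.mulVec, dotProduct, Fin.sum_univ_seven]; ring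

end Act

/-- the product carrying the lowest vector to the highest -/
def lift60 : M7 ℤ :=
  nz ⟨7, by decide⟩ * nz ⟨6, by decide⟩ * nz ⟨7, by decide⟩ * nz ⟨6, by decide⟩ * nz ⟨7, by decide⟩

theorem lift60_col : ∀ i : Fin 7, i ≠ 0 → lift60 i 6 = 0 := by decide +kernel

theorem nz6_col : (∀ i : Fin 7, i ≠ 0 → nz ⟨6, by decide⟩ i 0 = 0) ∧
    (∀ i : Fin 7, i ≠ 2 → nz ⟨6, by decide⟩ i 1 = 0) ∧
    (nz ⟨6, by decide⟩ 2 1 = 1 ∨ nz ⟨6, by decide⟩ 2 1 = -1) := by decide +kernel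

theorem nz6_block : ∀ i : Fin 7, i ≠ 0 → i ≠ 1 → i ≠ 2 → ∀ k : Fin 7, i ≤ k → ∀ l : Fin 7, l.val ≤ 2 →
    nz ⟨6, by decide⟩ k l = 0 := by
  have h : ∀ p : Fin 7 × Fin 7, decide (p.1.val < 3 ∨ 2 < p.2.val) = true ∨
      decide (nz ⟨6, by decide⟩ p.1 p.2 = 0) = true := by decide +kernel
  intro i h0 h1 h2 k hk l hl
  have hi : 3 ≤ i.val := by fin_cases i <;> simp_all
  rcases h (k, l) with h' | h'
  · have : k.val < 3 ∨ 2 < l.val := of_decide_eq_true h'
    rw [Fin.le_def] at hk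
    omega
  · exact of_decide_eq_true h'

theorem nz7_col : nz ⟨7, by decide⟩ 1 0 = 1 ∨ nz ⟨7, by decide⟩ 1 0 = -1 := by decide +kernel

variable {F : Type*} [Field F]

/-- the action on vectors -/
noncomputable def act (g : ↥(chevG2.group F)) (v : Fin 7 → F) : Fin 7 → F :=
  ((seven g : GL (Fin 7) F) : M7 F) *ᵥ v

theorem act_mul (g h : ↥(chevG2.group F)) (v : Fin 7 → F) : act (g * h) v = act g (act h v) := by
  rw [act, map_mul, Units.val_mul, ← Matrix.mulVec_mulVec]; rfl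

theorem act_one (v : Fin 7 → F) : act 1 v = v := by rw [act, map_one]; simp

theorem act_smul (g : ↥(chevG2.group F)) (a : F) (v : Fin 7 → F) : act g (a • v) = a • act g v :=
  Matrix.mulVec_smul _ _ _

theorem act_add (g : ↥(chevG2.group F)) (v w : Fin 7 → F) : act g (v + w) = act g v + act g w :=
  Matrix.mulVec_add _ _ _

theorem act_inv_self (g : ↥(chevG2.group F)) (v : Fin 7 → F) : act g⁻¹ (act g v) = v := by
  rw [← act_mul, inv_mul_cancel, act_one]

theorem act_ne_zero {v : Fin 7 → F} (g : ↥(chevG2.group F)) (hv : v ≠ 0) : act g v ≠ 0 := fun h =>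
  hv (by rw [← act_inv_self g v, h]; exact Matrix.mulVec_zero _)

theorem act_X (r : Rt chevG2) (t : F) (v : Fin 7 → F) : act (X r t) v = xm r t *ᵥ v := by
  rw [act, seven_X, xg_val]

theorem act_Q (g : ↥(chevG2.group F)) (v : Fin 7 → F) : Q (act g v) = Q v := Q_inv (seven_mem g) v

theorem act_single (g : ↥(chevG2.group F)) (i j : Fin 7) :
    act g (Pi.single j 1) i = ((seven g : GL (Fin 7) F) : M7 F) i j := by
  simp [act, Matrix.mulVec_single]

theorem exists_six_ne {v : Fin 7 → F} (hQ : Q v = 0) (hv : v ≠ 0) :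
    ∃ g : ↥(chevG2.group F), act g v 6 ≠ 0 := by
  by_cases h6 : v 6 = 0
  swap
  · exact ⟨1, by rwa [act_one]⟩
  by_cases h1 : v 1 = 0
  swap
  · exact ⟨X ⟨0, by decide⟩ 1, by rw [act_X, act0, h6]; simpa using h1⟩
  by_cases h2 : v 2 = 0
  swap
  · exact ⟨X ⟨1, by decide⟩ 1, by rw [act_X, act1, h6]; simpa using h2⟩
  by_cases h4 : v 4 = 0
  swap
  · exact ⟨X ⟨3, by decide⟩ 1, by rw [act_X, act3, h6]; simpa using h4⟩
  by_cases h5 : v 5 = 0
  swap
  · exact ⟨X ⟨4, by decide⟩ 1, by rw [act_X, act4, h6]; simpa using h5⟩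
  have h3 : v 3 = 0 := by
    have := hQ
    simp [Q_eq, h1, h2, h6] at this
    exact this
  have h0 : v 0 ≠ 0 := fun h0 => hv (by funext i; fin_cases i <;> assumption)
  exact ⟨X ⟨2, by decide⟩ 1, by rw [act_X, act2, h6, h3]; simpa using h0⟩

theorem lift60_spec : ∃ w : ↥(chevG2.group F), ((seven w : GL (Fin 7) F) : M7 F) = cst lift60 := by
  refine ⟨Pg ⟨0, by decide⟩ * Pg ⟨1, by decide⟩ * Pg ⟨0, by decide⟩ * Pg ⟨1, by decide⟩ * Pg ⟨0, by decide⟩, ?_⟩
  simp only [map_mul, Units.val_mul, seven_Pg, p_zero, p_one, lift60]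

/-- a singular vector is carried into the highest weight line -/
theorem exists_to_top {v : Fin 7 → F} (hQ : Q v = 0) (hv : v ≠ 0) :
    ∃ g : ↥(chevG2.group F), ∀ i, i ≠ 0 → act g v i = 0 := by
  obtain ⟨g₀, hg₀⟩ := exists_six_ne hQ hv
  set w := act g₀ v with hw
  have a : w 6 ≠ 0 := hg₀
  set g₁ := X (⟨7, by decide⟩ : Rt chevG2) (-(w 5 / w 6)) with hg₁
  set w1 := act g₁ w with hw1
  have e16 : w1 6 = w 6 := by rw [hw1, hg₁, act_X, act7]; rfl
  have e15 : w1 5 = 0 := by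
    rw [hw1, hg₁, act_X, act7]
    show w 5 + -(w 5 / w 6) * w 6 = 0
    field_simp; ring
  set g₂ := X (⟨8, by decide⟩ : Rt chevG2) (-(w1 4 / w1 6)) with hg₂
  set w2 := act g₂ w1 with hw2
  have a1 : w1 6 ≠ 0 := by rwa [e16]
  have e26 : w2 6 = w1 6 := by rw [hw2, hg₂, act_X, act8]; rfl
  have e25 : w2 5 = 0 := by rw [hw2, hg₂, act_X, act8]; exact e15
  have e24 : w2 4 = 0 := by
    rw [hw2, hg₂, act_X, act8]
    show w1 4 + -(w1 4 / w1 6) * w1 6 = 0
    field_simp; ring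
  have a2 : w2 6 ≠ 0 := by rwa [e26]
  set g₃ := X (⟨9, by decide⟩ : Rt chevG2) (w2 3 / w2 6) with hg₃
  set w3 := act g₃ w2 with hw3
  have e36 : w3 6 = w2 6 := by rw [hw3, hg₃, act_X, act9]; rfl
  have e35 : w3 5 = 0 := by rw [hw3, hg₃, act_X, act9]; exact e25
  have e34 : w3 4 = 0 := by rw [hw3, hg₃, act_X, act9]; exact e24
  have e33 : w3 3 = 0 := by
    rw [hw3, hg₃, act_X, act9]
    show w2 3 - w2 3 / w2 6 * w2 6 = 0
    field_simp; ring
  have a3 : w3 6 ≠ 0 := by rwa [e36]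
  set g₄ := X (⟨10, by decide⟩ : Rt chevG2) (w3 2 / w3 6) with hg₄
  set w4 := act g₄ w3 with hw4
  have e46 : w4 6 = w3 6 := by rw [hw4, hg₄, act_X, act10]; rfl
  have e45 : w4 5 = 0 := by rw [hw4, hg₄, act_X, act10]; exact e35
  have e44 : w4 4 = 0 := by rw [hw4, hg₄, act_X, act10]; exact e34
  have e43 : w4 3 = 0 := by rw [hw4, hg₄, act_X, act10]; exact e33
  have e42 : w4 2 = 0 := by
    rw [hw4, hg₄, act_X, act10]
    show w3 2 - w3 2 / w3 6 * w3 6 = 0
    field_simp; ring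
  have a4 : w4 6 ≠ 0 := by rwa [e46]
  set g₅ := X (⟨11, by decide⟩ : Rt chevG2) (w4 1 / w4 6) with hg₅
  set w5 := act g₅ w4 with hw5
  have e56 : w5 6 = w4 6 := by rw [hw5, hg₅, act_X, act11]; rfl
  have e55 : w5 5 = 0 := by rw [hw5, hg₅, act_X, act11]; exact e45
  have e54 : w5 4 = 0 := by rw [hw5, hg₅, act_X, act11]; exact e44
  have e53 : w5 3 = 0 := by rw [hw5, hg₅, act_X, act11]; exact e43
  have e52 : w5 2 = 0 := by rw [hw5, hg₅, act_X, act11]; exact e42
  have e51 : w5 1 = 0 := by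
    rw [hw5, hg₅, act_X, act11]
    show w4 1 - w4 1 / w4 6 * w4 6 = 0
    field_simp; ring
  have hQ5 : Q w5 = 0 := by rw [hw5, hw4, hw3, hw2, hw1, hw]; simp only [act_Q, hQ]
  have e50 : w5 0 = 0 := by
    have a5 : w5 6 ≠ 0 := by rwa [e56]
    simpa [Q_eq, e51, e52, e53, a5] using hQ5
  have e5 : w5 = w5 6 • Pi.single 6 1 := by
    funext i
    fin_cases i <;> simp [e50, e51, e52, e53, e54, e55]
  obtain ⟨n, hn⟩ := lift60_spec (F := F)
  refine ⟨n * (g₅ * (g₄ * (g₃ * (g₂ * (g₁ * g₀))))), fun i hi => ?_⟩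
  simp only [act_mul, ← hw, ← hw1, ← hw2, ← hw3, ← hw4, ← hw5]
  rw [e5, act_smul, Pi.smul_apply, act_single, hn, cst_apply, lift60_col i hi]
  simp

/-- stabiliser of the highest weight line -/
noncomputable def topStab : Subgroup (GL chevG2.Idx F) :=
  Subgroup.map (chevG2.group F).subtype
    { carrier := {g | ∀ i, i ≠ 0 → act g (Pi.single 0 1) i = 0}
      one_mem' := fun i hi => by rw [act_one]; simp [hi]
      mul_mem' := fun {g h} hg hh i hi => by
        have e : act h (Pi.single 0 1) = act h (Pi.single 0 1) 0 • Pi.single 0 1 := by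
          funext j; by_cases hj : j = 0
          · subst hj; simp
          · simp [hh j hj, hj]
        rw [act_mul, e, act_smul, Pi.smul_apply, hg i hi, smul_zero]
      inv_mem' := fun {g} hg i hi => by
        have e : act g (Pi.single 0 1) = act g (Pi.single 0 1) 0 • Pi.single 0 1 := by
          funext j; by_cases hj : j = 0
          · subst hj; simp
          · simp [hg j hj, hj]
        have h0 : act g (Pi.single 0 1) 0 ≠ 0 := fun h0 =>
          act_ne_zero g (v := Pi.single 0 1) (by simp) (by rw [e, h0, zero_smul])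
        have := congrArg (fun v => act g⁻¹ v i) e
        simp only [act_inv_self, act_smul, Pi.smul_apply, Pi.single_apply, if_neg hi, smul_eq_mul] at this
        exact (mul_eq_zero.1 this.symm).resolve_left h0 }

theorem mem_topStab {g : ↥(chevG2.group F)} :
    (g : GL chevG2.Idx F) ∈ (topStab : Subgroup (GL chevG2.Idx F)) ↔ ∀ i, i ≠ 0 → act g (Pi.single 0 1) i = 0 := by
  constructor
  · rintro ⟨x, hx, e⟩
    obtain rfl : x = g := Subtype.ext e
    exact hx
  · exact fun h => ⟨g, h, rfl⟩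

theorem topStab_cell {g : GL chevG2.Idx F} (hg : g ∈ (topStab : Subgroup (GL chevG2.Idx F))) :
    g ∈ (chevG2.borelSubgroup F : Set (GL chevG2.Idx F)) ∪ DoubleCoset.doubleCoset (C.P F ⟨1, by decide⟩)
      (chevG2.borelSubgroup F : Set (GL chevG2.Idx F)) (chevG2.borelSubgroup F) := by
  have hle : (topStab : Subgroup (GL chevG2.Idx F)) ≤ chevG2.group F := Subgroup.map_subtype_le _
  have hB : chevG2.borelSubgroup F ≤ (topStab : Subgroup (GL chevG2.Idx F)) := by
    intro x hx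
    refine (mem_topStab (g := ⟨x, C.borel_le_group hx⟩)).2 fun i hi => ?_
    rw [act_single]
    exact (seven_borel (g := ⟨x, C.borel_le_group hx⟩) hx).1 (Fin.pos_iff_ne_zero.2 hi)
  have hP0 : ∀ h : (0 : ℕ) < chevG2.rank, C.P F ⟨0, h⟩ ∉ (topStab : Subgroup (GL chevG2.Idx F)) := by
    intro h hc
    have h1 := (mem_topStab (g := Pg ⟨0, h⟩)).1 hc 1 (by decide)
    rw [act_single, seven_Pg, show (⟨0, h⟩ : Fin chevG2.rank) = ⟨0, by decide⟩ from rfl, p_zero, cst_apply] at h1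
    rcases nz7_col with e | e <;> simp [e] at h1
  rw [commOK_G2.eq_parabolic_of_borel_le hB hle] at hg
  obtain ⟨M, hM⟩ := commOK_G2.borel_union_cell (F := F) (⟨1, by decide⟩ : Fin chevG2.rank)
  rw [← hM]
  rw [C.parabolic_eq] at hg
  refine (sup_le (c := M) ?_ ((Subgroup.closure_le _).2 ?_)) hg
  · intro x hx
    show x ∈ (M : Set (GL chevG2.Idx F))
    rw [hM]; exact Or.inl hx
  · rintro x ⟨j, ⟨hj, hjM⟩, rfl⟩
    have h2 : chevG2.rank = 2 := rfl
    have : j = ⟨1, by decide⟩ := by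
      rcases j with ⟨j, hj'⟩
      rcases Nat.eq_zero_or_pos j with rfl | hpos
      · exact absurd hjM (hP0 hj)
      · exact Fin.ext (show j = 1 by omega)
    subst this
    show C.P F _ ∈ (M : Set (GL chevG2.Idx F))
    rw [hM]
    exact Or.inr (DoubleCoset.mem_doubleCoset.2 ⟨1, one_mem _, 1, one_mem _, by group⟩)

theorem mem_borel_of_flag {g : ↥(chevG2.group F)}
    (h0 : ∀ i, i ≠ 0 → act g (Pi.single 0 1) i = 0) (h1 : act g (Pi.single 1 1) 2 = 0) :
    (g : GL chevG2.Idx F) ∈ chevG2.borelSubgroup F := by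
  rcases topStab_cell (mem_topStab.2 h0) with h | h
  · exact h
  exfalso
  obtain ⟨b, hb, b', hb', e⟩ := DoubleCoset.mem_doubleCoset.1 h
  have eg : g = ⟨b, C.borel_le_group hb⟩ * Pg ⟨1, by decide⟩ * ⟨b', C.borel_le_group hb'⟩ := Subtype.ext e
  obtain ⟨hbU, c, hbd⟩ := seven_borel (g := ⟨b, C.borel_le_group hb⟩) hb
  obtain ⟨hbU', c', hbd'⟩ := seven_borel (g := ⟨b', C.borel_le_group hb'⟩) hb'
  rw [act_single, eg, map_mul, map_mul, Units.val_mul, Units.val_mul, seven_Pg, p_one] at h1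
  generalize ((seven (⟨b, C.borel_le_group hb⟩ : ↥(chevG2.group F)) : GL (Fin 7) F) : M7 F) = M at *
  generalize ((seven (⟨b', C.borel_le_group hb'⟩ : ↥(chevG2.group F)) : GL (Fin 7) F) : M7 F) = N at *
  obtain ⟨n0, n1, n21⟩ := nz6_col
  have hN : ∀ l, l ≠ 0 → l ≠ 1 → N l 1 = 0 := fun l hl0 hl1 => hbU' (by
    show (1 : Fin 7) < l
    fin_cases l <;> simp_all)
  have hMn : ∀ l, (M * (cst (nz ⟨6, by decide⟩) : M7 F)) 2 l = ∑ k, M 2 k * (nz ⟨6, by decide⟩ k l : F) := fun l => by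
    simp [Matrix.mul_apply, cst_apply]
  rw [Matrix.mul_apply, Finset.sum_eq_add (0 : Fin 7) 1 (by decide) (fun l _ hl => by rw [hN l hl.1 hl.2, mul_zero])
    (by simp) (by simp), hMn, hMn, Finset.sum_eq_single (0 : Fin 7) (fun k _ hk => by simp [n0 k hk]) (by simp),
    Finset.sum_eq_single (2 : Fin 7) (fun k _ hk => by simp [n1 k hk]) (by simp),
    hbU (show (0 : Fin 7) < 2 by decide), zero_mul, zero_mul, zero_add, hbd, hbd'] at h1
  rcases n21 with e | e <;> simp [e] at h1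

theorem conj_flag {g : ↥(chevG2.group F)} [IsAlgClosed F]
    (h0 : ∀ i, i ≠ 0 → act g (Pi.single 0 1) i = 0) :
    ∃ h : ↥(chevG2.group F), ((h⁻¹ * g * h : ↥(chevG2.group F)) : GL chevG2.Idx F) ∈ chevG2.borelSubgroup F := by
  set M := ((seven g : GL (Fin 7) F) : M7 F) with hM
  by_cases h21 : M 2 1 = 0
  · exact ⟨1, by rw [inv_one, one_mul, mul_one]; exact mem_borel_of_flag h0 (by rw [act_single]; exact h21)⟩
  let A : Matrix (Fin 2) (Fin 2) F := !![M 1 1, M 1 2; M 2 1, M 2 2]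
  obtain ⟨μ, hμ⟩ := Module.End.exists_eigenvalue (Matrix.toLin' A)
  obtain ⟨u, hu⟩ := hμ.exists_hasEigenvector
  have hu' : A *ᵥ u = μ • u := by simpa [Matrix.toLin'_apply] using hu.apply_eq_smul
  have e1 : M 1 1 * u 0 + M 1 2 * u 1 = μ * u 0 := by
    simpa [A, Matrix.mulVec, dotProduct, Fin.sum_univ_two] using congrFun hu' 0
  have e2 : M 2 1 * u 0 + M 2 2 * u 1 = μ * u 1 := by
    simpa [A, Matrix.mulVec, dotProduct, Fin.sum_univ_two] using congrFun hu' 1
  have hu1 : u 1 ≠ 0 := by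
    intro h
    rw [h, mul_zero, mul_zero, add_zero] at e2
    have h0' : u 0 = 0 := (mul_eq_zero.1 e2).resolve_left h21
    exact hu.2 (by funext i; fin_cases i <;> assumption)
  set s := u 0 / u 1 with hs
  obtain ⟨n0, n1, n21⟩ := nz6_col
  set h := X (⟨6, by decide⟩ : Rt chevG2) s * Pg ⟨1, by decide⟩ with hh
  have hn : ∀ j i, act (Pg ⟨1, by decide⟩) (Pi.single j (1 : F)) i = (nz ⟨6, by decide⟩ i j : F) := fun j i => by
    rw [act_single, seven_Pg, p_one, cst_apply]
  set e : F := (nz ⟨6, by decide⟩ 2 1 : F) with he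
  have hh1 : act h (Pi.single 1 1) = e • (fun i => if i = 1 then s else if i = 2 then 1 else 0) := by
    have : act (Pg ⟨1, by decide⟩) (Pi.single 1 (1 : F)) = e • Pi.single 2 1 := by
      funext i; rw [hn]
      by_cases hi : i = 2
      · subst hi; simp [he]
      · simp [n1 i hi, hi]
    rw [hh, act_mul, this, act_smul, act_X, act6]
    congr 1
    funext i; fin_cases i <;> simp
  have hh0 : act h (Pi.single 0 1) = (nz ⟨6, by decide⟩ 0 0 : F) • Pi.single 0 1 := by
    have : act (Pg ⟨1, by decide⟩) (Pi.single 0 (1 : F)) = (nz ⟨6, by decide⟩ 0 0 : F) • Pi.single 0 1 := by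
      funext i; rw [hn]
      by_cases hi : i = 0
      · subst hi; simp
      · simp [n0 i hi, hi]
    rw [hh, act_mul, this, act_smul, act_X, act6]
    congr 1
    funext i; fin_cases i <;> simp
  have hne : (nz ⟨6, by decide⟩ 0 0 : F) ≠ 0 := fun h' =>
    act_ne_zero h (v := Pi.single 0 1) (by simp) (by rw [hh0, h', zero_smul])
  have hinv : act h⁻¹ (Pi.single 0 1) = ((nz ⟨6, by decide⟩ 0 0 : F))⁻¹ • Pi.single 0 1 := by
    have := congrArg (act h⁻¹) hh0
    rw [act_inv_self, act_smul] at this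
    conv_rhs => rw [this]
    rw [smul_smul, inv_mul_cancel₀ hne, one_smul]
  have hg0 : act g (Pi.single 0 1) = M 0 0 • Pi.single 0 1 := by
    funext i
    by_cases hi : i = 0
    · subst hi; simp [act_single, hM]
    · simp [h0 i hi, hi]
  refine ⟨h, mem_borel_of_flag (fun i hi => ?_) ?_⟩
  · rw [act_mul, act_mul, hh0, act_smul, hg0, act_smul, act_smul, hinv]
    simp [hi]
  · rw [act_mul, act_mul, hh1, act_smul]
    set z : Fin 7 → F := fun i => if i = 1 then s else if i = 2 then 1 else 0 with hz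
    have hzs : z = s • Pi.single 1 1 + Pi.single 2 1 := by
      funext i; fin_cases i <;> simp [hz]
    have hcol : ∀ j : Fin 7, j = 1 ∨ j = 2 → ∀ i : Fin 7, i ≠ 0 → i ≠ 1 → i ≠ 2 → M i j = 0 := by
      intro j hj i hi0 hi1 hi2
      rcases topStab_cell (mem_topStab.2 h0) with hb | hb
      · refine (seven_borel hb).1 ?_
        show j < i
        rcases hj with rfl | rfl <;> fin_cases i <;> simp_all
      · obtain ⟨b, hb, b', hb', eb⟩ := DoubleCoset.mem_doubleCoset.1 hb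
        have eg : g = ⟨b, C.borel_le_group hb⟩ * Pg ⟨1, by decide⟩ * ⟨b', C.borel_le_group hb'⟩ := Subtype.ext eb
        rw [hM, eg, map_mul, map_mul, Units.val_mul, Units.val_mul, seven_Pg, p_one, Matrix.mul_apply]
        refine Finset.sum_eq_zero fun l _ => ?_
        by_cases hl : j < l
        · rw [(seven_borel (g := ⟨b', C.borel_le_group hb'⟩) hb').1 hl, mul_zero]
        · rw [Matrix.mul_apply, Finset.sum_mul]
          refine Finset.sum_eq_zero fun k _ => ?_
          by_cases hk : k < i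
          · rw [(seven_borel (g := ⟨b, C.borel_le_group hb⟩) hb).1 hk, zero_mul, zero_mul]
          · rw [cst_apply, nz6_block i hi0 hi1 hi2 k (not_lt.1 hk) l (by rcases hj with rfl | rfl <;> omega)]
            simp
    have hgz : act g z = (M 0 1 * s + M 0 2) • Pi.single 0 1 + μ • z := by
      rw [hzs, act_add, act_smul]
      funext i
      simp only [Pi.add_apply, Pi.smul_apply, act_single, ← hM, smul_eq_mul]
      by_cases hi0 : i = 0
      · subst hi0; simp; ring
      by_cases hi1 : i = 1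
      · subst hi1
        simp only [hs]
        simp
        field_simp
        linear_combination e1
      by_cases hi2 : i = 2
      · subst hi2
        simp only [hs]
        simp
        field_simp
        linear_combination e2
      rw [hcol 1 (Or.inl rfl) i hi0 hi1 hi2, hcol 2 (Or.inr rfl) i hi0 hi1 hi2]
      simp [hi0, hi1, hi2]
    have hez : e ≠ 0 := by rcases n21 with q | q <;> simp [he, q]
    have hz' : z = e⁻¹ • act h (Pi.single 1 1) := by rw [hh1, smul_smul, inv_mul_cancel₀ hez, one_smul]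
    rw [hgz, act_smul, act_add, act_smul, act_smul, hinv, hz', act_smul, act_inv_self]
    simp

theorem exists_conj_borel [IsAlgClosed F] {g : ↥(chevG2.group F)} {v : Fin 7 → F} {a : F} (hv : v ≠ 0)
    (hQ : Q v = 0) (hg : act g v = a • v) :
    ∃ h : ↥(chevG2.group F), ((h⁻¹ * g * h : ↥(chevG2.group F)) : GL chevG2.Idx F) ∈ chevG2.borelSubgroup F := by
  obtain ⟨k, hk⟩ := exists_to_top hQ hv
  have hkv : act k v = act k v 0 • Pi.single 0 1 := by
    funext j; by_cases hj : j = 0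
    · subst hj; simp
    · simp [hk j hj, hj]
  have h0 : act k v 0 ≠ 0 := fun h0 => act_ne_zero k hv (by rw [hkv, h0, zero_smul])
  have hfix : ∀ i, i ≠ 0 → act (k * g * k⁻¹) (Pi.single 0 1) i = 0 := by
    intro i hi
    have e : (Pi.single 0 1 : Fin 7 → F) = (act k v 0)⁻¹ • act k v := by
      conv_rhs => rw [hkv]
      simp [smul_smul, inv_mul_cancel₀ h0]
    rw [e, act_smul, act_mul, act_inv_self, act_mul, hg, act_smul]
    simp [hk i hi]
  obtain ⟨h, hh⟩ := conj_flag hfix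
  exact ⟨k⁻¹ * h, by simpa [mul_assoc] using hh⟩

end Cfsg.Agent.Lib.G2Seven
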