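import Cfsg.Agent.Lib.ChevStructure.RegTorus.Main
import Cfsg.Agent.Lib.ChevStructure.RegTorus.Gram
import Cfsg.Agent.Lib.ChevStructure.Order.CertG2
import Mathlib.RingTheory.Polynomial.Cyclotomic.Expand

/-!
G₂(q), q ≥ 3, has a cyclic subgroup of order q² − q + 1.
-/

set_option autoImplicit false
set_option maxRecDepth 100000
set_option linter.unusedSectionVars false

namespace Cfsg.Agent.Lib.G2Seven.CoxTorus

open Cfsg.Lie Cfsg.Agent.Lib.ChevStructure Cfsg.Agent.Lib.ChevStructure.RegTorus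
open scoped Matrix

/-- the core -/
noncomputable abbrev C : Core chevG2 := Cert.G2.core

/-- the invariant form -/
def B : Matrix (Fin chevG2.rank) (Fin chevG2.rank) ℤ := matL chevG2.rank [[2, -3], [-3, 6]]

/-- the Cartan integers -/
def aG (j k : Fin chevG2.rank) : ℤ := Data.G2.fast.a j (Data.G2.fast.p k)

/-- coordinates of a root -/
def vv (r : ℕ) : Fin chevG2.rank → ℤ := fun m => Data.G2.fast.v r m

theorem v_eq (x : Rt chevG2) : C.v x = vv x.val := rfl

theorem p_eq (i : Fin chevG2.rank) : (C.p i).val = Data.G2.fast.p i := Cert.G2.certified.p_val i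

theorem aG_eq (j k : Fin chevG2.rank) : A chevG2 j (C.p k) = aG j k := by
  rw [Cert.G2.certified.A_val, p_eq]; rfl

theorem refl_inv : ∀ i, (srefMat aG i)ᵀ * B * srefMat aG i = B := by decide +kernel

theorem B_symm : Bᵀ = B := by decide +kernel

theorem B_det : B.det = 3 := by decide +kernel

theorem inv (σ : Equiv.Perm (Rt chevG2)) (hσ : σ ∈ C.WG) : (mat C σ)ᵀ * B * mat C σ = B :=
  mat_invariant C B aG_eq refl_inv hσ

theorem norms : ∀ y : Rt chevG2, bil B (vv y.val) (vv y.val) = 2 ∨ bil B (vv y.val) (vv y.val) = 6 := by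
  unfold Rt; decide +kernel

theorem short_root : bil B (vv 7) (vv 7) = 2 := by decide +kernel

theorem cases2 (j : Fin chevG2.rank) : j = ⟨0, by decide⟩ ∨ j = ⟨1, by decide⟩ := by
  revert j; decide

theorem gram_det (M : Matrix (Fin chevG2.rank) (Fin chevG2.rank) ℤ) (hi : Mᵀ * B * M = B)
    (hM : M ^ 2 = M - 1) (u : Fin chevG2.rank → ℤ) : (cyc M u).det ^ 2 * 4 = bil B u u ^ 2 := by
  have hb : 2 * bil B u (M *ᵥ u) = bil B u u := by
    have e1 := bil_pow B hi u 1 1
    rw [pow_one] at e1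
    rw [show 1 + 1 = 2 from rfl, hM, Matrix.sub_mulVec, Matrix.one_mulVec] at e1
    have e2 : bil B (M *ᵥ u) (M *ᵥ u - u) = bil B (M *ᵥ u) (M *ᵥ u) - bil B (M *ᵥ u) u := by
      simp [bil, Matrix.mulVec_sub, dotProduct_sub]
    rw [e2, bil_mulVec B hi, bil_comm B B_symm (M *ᵥ u) u] at e1
    linarith
  have hG : (cyc M u)ᵀ * B * cyc M u = !![bil B u u, bil B u (M *ᵥ u); bil B u (M *ᵥ u), bil B u u] := by
    ext i j
    rw [gram_entry, bil_pow_dist B B_symm hi]
    rcases cases2 i with rfl | rfl <;> rcases cases2 j with rfl | rfl <;>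
      simp [pow_zero, pow_one, Matrix.one_mulVec] <;> rfl
  have h := congrArg Matrix.det hG
  rw [Matrix.det_mul, Matrix.det_mul, Matrix.det_transpose, B_det] at h
  have h2 : (!![bil B u u, bil B u (M *ᵥ u); bil B u (M *ᵥ u), bil B u u] : Matrix (Fin 2) (Fin 2) ℤ).det =
      bil B u u ^ 2 - bil B u (M *ᵥ u) ^ 2 := by rw [Matrix.det_fin_two_of]; ring
  have h3 : (cyc M u).det * 3 * (cyc M u).det = bil B u u ^ 2 - bil B u (M *ᵥ u) ^ 2 := h.trans h2
  rw [← hb] at h3 ⊢
  nlinarith

theorem prime_ord {q r : ℕ} (hr : r.Prime) (hr3 : r ≠ 3) (h : r ∣ q ^ 2 - q + 1) (hq : 1 ≤ q) :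
    orderOf (q : ZMod r) = 6 ∧ 7 ≤ r := by
  have : Fact r.Prime := ⟨hr⟩
  have hle : q ≤ q ^ 2 := Nat.le_self_pow (by norm_num) q
  have h1 : (q : ZMod r) ^ 2 - q + 1 = 0 := by
    have := (ZMod.natCast_eq_zero_iff (q ^ 2 - q + 1) r).2 h
    push_cast [hle] at this
    exact this
  have hr2 : r ≠ 2 := by
    rintro rfl
    obtain ⟨k, hk⟩ := h
    rcases Nat.even_or_odd q with ⟨t, rfl⟩ | ⟨t, rfl⟩ <;> ring_nf at hk hle <;> omega
  have h3 : (q : ZMod r) ^ 3 = -1 := by linear_combination ((q : ZMod r) + 1) * h1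
  have : Fact (2 < r) := ⟨by have := hr.two_le; omega⟩
  have hne : (q : ZMod r) ^ 2 ≠ 1 := by
    intro h2
    have hq1 : (q : ZMod r) = 2 := by linear_combination (-1 : ZMod r) * h1 + h2
    have : ((3 : ℕ) : ZMod r) = 0 := by rw [hq1] at h2; push_cast; linear_combination h2
    rw [ZMod.natCast_eq_zero_iff] at this
    exact hr3 ((Nat.prime_dvd_prime_iff_eq hr Nat.prime_three).1 this)
  have h6 : (q : ZMod r) ^ 6 = 1 := by rw [show 6 = 3 * 2 from rfl, pow_mul, h3, neg_one_sq]
  have ho : orderOf (q : ZMod r) = 6 := by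
    refine (orderOf_eq_iff (by norm_num)).2 ⟨h6, fun m hm hm0 hm1 => ?_⟩
    interval_cases m
    · rw [pow_one] at hm1; exact hne (by rw [hm1, one_pow])
    · exact hne hm1
    · rw [h3] at hm1; exact ZMod.neg_one_ne_one hm1
    · exact hne (by linear_combination h6 - (q : ZMod r) ^ 2 * hm1)
    · refine hne ?_
      have hx : (q : ZMod r) = 1 := by linear_combination h6 - (q : ZMod r) * hm1
      rw [hx, one_pow]
  refine ⟨ho, ?_⟩
  have h2 : 6 ∣ r - 1 := by
    rw [show (6 : ℕ) = orderOf (q : ZMod r) from ho.symm]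
    refine orderOf_dvd_of_pow_eq_one (ZMod.pow_card_sub_one_eq_one ?_)
    intro h0
    rw [h0] at h6
    simp at h6
  have := hr.two_le
  obtain ⟨k, hk⟩ := h2
  omega

theorem exists_prime (q : ℕ) (hq : 3 ≤ q) : ∃ r, r.Prime ∧ r ≠ 3 ∧ r ∣ q ^ 2 - q + 1 := by
  have hle : q ≤ q ^ 2 := Nat.le_self_pow (by norm_num) q
  by_contra h
  push Not at h
  have he : q ^ 2 - q + 1 = 3 ^ (q ^ 2 - q + 1).primeFactorsList.length := by
    refine Nat.eq_prime_pow_of_unique_prime_dvd (by omega) fun {r} hr hd => ?_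
    by_contra h2
    exact h r hr h2 hd
  generalize (q ^ 2 - q + 1).primeFactorsList.length = k at he
  have h7 : 7 ≤ q ^ 2 - q + 1 := by
    have : 3 * q ≤ q ^ 2 := by nlinarith
    omega
  match k with
  | 0 => simp at he; omega
  | 1 => omega
  | k + 2 =>
    have h9 : ((q ^ 2 - q + 1 : ℕ) : ZMod 9) = 0 := by
      rw [he, pow_add]; push_cast; rw [show ((9 : ZMod 9)) = 0 from rfl, mul_zero]
    push_cast [hle] at h9
    have : ∀ x : ZMod 9, x ^ 2 - x + 1 ≠ 0 := by decide
    exact this _ h9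

theorem exists_torus {F : Type*} [Field F] [Fintype F] (q : ℕ) (hF : Fintype.card F = q) (hq : 3 ≤ q) :
    ∃ H : Subgroup ↥(chevG2.group F), IsCyclic ↥H ∧ Nat.card ↥H = q ^ 2 - q + 1 := by
  obtain ⟨r, hr, hr3, hrd⟩ := exists_prime q hq
  obtain ⟨hord, hr7⟩ := prime_ord hr hr3 hrd (by omega)
  have hd1 : ∀ i : Fin chevG2.rank, Order.DataTorus.dG2.getD i.val 0 = 1 := by decide
  have hcG : ∀ (K : Type _) [Field K] [Fintype K], Nat.card (chevG2.group K) =
      Fintype.card K ^ (chevG2.nroots / 2) * (([2, 6] : List ℕ).map fun e => Fintype.card K ^ e - 1).prod := by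
    intro K _ _
    have := Order.CertG2.card_group (K := K) rfl
    simp only [hd1, Nat.gcd_one_right, Finset.prod_const_one, one_mul] at this
    exact this
  have hle : q ≤ q ^ 2 := Nat.le_self_pow (by norm_num) q
  have hS : Setup C r 6 q (q ^ 2 - q + 1) [2, 6] :=
    { comm := commOK_G2
      prime := hr
      rank_lt := by show 2 + 1 < r; omega
      v_small := fun x k => by
        have h : ∀ (x : Rt chevG2) (k : Fin chevG2.rank), |vv x.val k| ≤ 3 := by unfold Rt; decide +kernel
        rw [v_eq]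
        have := h x k
        omega
      ord := hord
      tot := by decide +kernel
      val := by rw [Polynomial.cyclotomic_six]; push_cast [hle]; simp
      len := rfl
      degs_prime := fun e he => by
        have h12 : e ≤ 6 ∧ 0 < e := by fin_cases he <;> omega
        exact ⟨fun hd => by have := Nat.le_of_dvd h12.2 hd; omega, h12.2⟩
      card_group := fun K _ _ => hcG K
      card_diag := fun K _ _ => by
        have := Order.CertG2.card_diagonal (K := K) rfl
        simp only [hd1, Nat.gcd_one_right, Finset.prod_const_one, one_mul] at this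
        exact this
      index := by
        intro σ hσ hΦ
        rw [Polynomial.cyclotomic_six, map_add, map_sub, map_pow, Polynomial.aeval_X, map_one] at hΦ
        have hM : mat C σ ^ 2 = mat C σ - 1 := by
          have := hΦ
          rw [sub_add, sub_eq_zero] at this
          exact this
        have hG := fun x => gram_det (mat C σ) (inv σ hσ) hM (C.v x)
        refine ⟨fun x hd => ?_, C.p ⟨0, by decide⟩, ?_⟩
        · have h := hG x
          obtain ⟨k, hk⟩ := hd
          rw [hk, v_eq] at h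
          rcases norms x with e | e <;> rw [e] at h
          · rcases lt_trichotomy k 0 with h' | h' | h'
            · nlinarith [show (49 : ℤ) ≤ (r : ℤ) ^ 2 by nlinarith [show (7 : ℤ) ≤ r by exact_mod_cast hr7], mul_pos (neg_pos.2 h') (neg_pos.2 h')]
            · subst h'; simp at h
            · nlinarith [show (49 : ℤ) ≤ (r : ℤ) ^ 2 by nlinarith [show (7 : ℤ) ≤ r by exact_mod_cast hr7], mul_pos h' h']
          · rcases lt_trichotomy k 0 with h' | h' | h'
            · nlinarith [show (49 : ℤ) ≤ (r : ℤ) ^ 2 by nlinarith [show (7 : ℤ) ≤ r by exact_mod_cast hr7], mul_pos (neg_pos.2 h') (neg_pos.2 h')]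
            · subst h'; simp at h
            · nlinarith [show (49 : ℤ) ≤ (r : ℤ) ^ 2 by nlinarith [show (7 : ℤ) ≤ r by exact_mod_cast hr7], mul_pos h' h']
        · have h := hG (C.p ⟨0, by decide⟩)
          have hp : (C.p ⟨0, by decide⟩).val = 7 := by rw [p_eq]; decide +kernel
          have hI : (cyc (mat C σ) (C.v (C.p ⟨0, by decide⟩))).det ^ 2 = 1 := by
            rw [v_eq, hp, short_root] at h
            rw [v_eq, hp]
            linarith
          exact ⟨(cyc (mat C σ) (C.v (C.p ⟨0, by decide⟩))).det, 0, by rw [zero_mul, add_zero, ← sq]; exact hI⟩ }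
  have hdvd : r ∣ Nat.card (chevG2.group F) := by
    have hcF := Order.CertG2.card_group (K := F) hF
    simp only [hd1, Nat.gcd_one_right, Finset.prod_const_one, one_mul] at hcF
    rw [hcF]
    refine hrd.trans (Dvd.dvd.mul_left ?_ _)
    refine (Dvd.intro ((q + 1) * (q ^ 3 - 1)) ?_).trans (List.dvd_prod (a := q ^ 6 - 1) (by simp))
    zify [hle, Nat.one_le_pow 3 q (by omega), Nat.one_le_pow 6 q (by omega)]
    ring
  obtain ⟨H, h1, h2, -⟩ := RegTorus.exists_torus hS hF hdvd
  exact ⟨H, h1, h2⟩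

end Cfsg.Agent.Lib.G2Seven.CoxTorus
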