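import Cfsg.Agent.Lib.ChevStructure.Cert.G2

/-!
Integer tables for the seven-dimensional representation of the Chevalley group of type G₂.
-/

set_option autoImplicit false
set_option maxRecDepth 100000

namespace Cfsg.Agent.Lib.G2Seven

open Cfsg.Lie Cfsg.Agent.Lib.ChevStructure Matrix

abbrev M7 (R : Type*) := Matrix (Fin 7) (Fin 7) R

/-- the matrix with the listed entries -/
def ofList (L : List (ℕ × ℕ × ℤ)) : M7 ℤ :=
  Matrix.of fun i j => ((L.filter fun e => e.1 == i.val && e.2.1 == j.val).map fun e => e.2.2).sum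

def xTab : List (List (ℕ × ℕ × ℤ)) :=
  [[(5, 0, -1), (6, 1, -1)], [(4, 0, 1), (6, 2, -1)], [(3, 0, -1), (4, 1, 1), (5, 2, 1), (6, 3, -2)],
    [(2, 0, -1), (3, 1, 1), (5, 3, -2), (6, 4, 1)], [(1, 0, 1), (3, 2, 1), (4, 3, 2), (6, 5, 1)],
    [(2, 1, 1), (5, 4, 1)], [(1, 2, 1), (4, 5, 1)], [(0, 1, 1), (2, 3, 2), (3, 4, 1), (5, 6, 1)],
    [(0, 2, -1), (1, 3, 2), (3, 5, -1), (4, 6, 1)], [(0, 3, -2), (1, 4, 1), (2, 5, 1), (3, 6, -1)],
    [(0, 4, 1), (2, 6, -1)], [(0, 5, -1), (1, 6, -1)]]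

def aTab : List (List (ℕ × ℕ × ℤ)) :=
  [[], [], [(6, 0, 1)], [(5, 1, -1)], [(4, 2, 1)], [], [], [(2, 4, 1)], [(1, 5, -1)], [(0, 6, 1)], [], []]

/-- the linear coefficient of a root element -/
def Xz (r : Rt chevG2) : M7 ℤ := ofList (xTab.getD r.val [])

/-- the quadratic coefficient of a root element -/
def Az (r : Rt chevG2) : M7 ℤ := ofList (aTab.getD r.val [])

/-- the image of the Chevalley basis -/
def bz : chevG2.Idx → M7 ℤ
  | Sum.inl i => Matrix.diagonal fun j => if i.val = 0 then ![1, -1, 2, 0, -2, 1, -1] j else ![0, 1, -1, 0, 1, -1, 0] j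
  | Sum.inr r => Xz r

/-- where the coordinate of a basis matrix is read off, with its sign -/
def piv : List (ℕ × ℕ × ℤ) :=
  [(5, 0, -1), (4, 0, 1), (3, 0, -1), (2, 0, -1), (1, 0, 1), (2, 1, 1), (1, 2, 1), (0, 1, 1), (0, 2, -1), (1, 4, 1),
    (0, 4, 1), (0, 5, -1)]

/-- the coordinate functional, as an integer weight on the entries -/
def cz : chevG2.Idx → M7 ℤ
  | Sum.inl i => if i.val = 0 then ofList [(0, 0, 1)] else ofList [(0, 0, 1), (1, 1, 1)]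
  | Sum.inr r => ofList [piv.getD r.val (0, 0, 0)]

theorem cz_bz : ∀ l k : chevG2.Idx, ∑ i, ∑ j, cz l i j * bz k i j = if l = k then 1 else 0 := by
  decide +kernel

/-- the linear coefficient of conjugation of a basis matrix by a root element -/
def cf1 (r : Rt chevG2) (k : chevG2.Idx) : M7 ℤ := Xz r * bz k - bz k * Xz r

/-- the quadratic coefficient of conjugation of a basis matrix by a root element -/
def cf2 (r : Rt chevG2) (k : chevG2.Idx) : M7 ℤ := Az r * bz k + bz k * Az r - Xz r * bz k * Xz r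

/-- the cubic coefficient of conjugation of a basis matrix by a root element -/
def cf3 (r : Rt chevG2) (k : chevG2.Idx) : M7 ℤ := Xz r * bz k * Az r - Az r * bz k * Xz r

/-- the quartic coefficient of conjugation of a basis matrix by a root element -/
def cf4 (r : Rt chevG2) (k : chevG2.Idx) : M7 ℤ := Az r * bz k * Az r

theorem cf_one : ∀ (r : Rt chevG2) (k : chevG2.Idx),
    cf1 r k = ∑ l, E chevG2 1 r l k • bz l := by decide +kernel

theorem cf_two : ∀ (r : Rt chevG2) (k : chevG2.Idx),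
    cf2 r k = ∑ l, E chevG2 2 r l k • bz l := by decide +kernel

theorem cf_three : ∀ (r : Rt chevG2) (k : chevG2.Idx),
    cf3 r k = ∑ l, E chevG2 3 r l k • bz l := by decide +kernel

theorem cf_four : ∀ (r : Rt chevG2) (k : chevG2.Idx), cf4 r k = 0 := by decide +kernel

theorem X_sq : ∀ (r : Rt chevG2) (i j : Fin 7), (Xz r * Xz r) i j = 2 * Az r i j := by decide +kernel

theorem X_A : ∀ (r : Rt chevG2) (i j : Fin 7),
    (Xz r * Az r) i j = 0 ∧ (Az r * Xz r) i j = 0 ∧ (Az r * Az r) i j = 0 := by decide +kernel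

/-- the polarised quadratic form -/
def Bz : M7 ℤ := ofList [(0, 6, -1), (6, 0, -1), (1, 5, 1), (5, 1, 1), (2, 4, -1), (4, 2, -1), (3, 3, 2)]

/-- the quadratic form as a triangular matrix -/
def Qz : M7 ℤ := ofList [(0, 6, -1), (1, 5, 1), (2, 4, -1), (3, 3, 1)]

/-- entries forced to vanish in a matrix commuting with the basis -/
def offTab : List (ℕ × ℕ × ((Fin 2 ⊕ Fin 12) × ℕ × ℕ × ℤ)) :=
  [(0, 1, Sum.inl 1, 0, 1, 1), (0, 2, Sum.inl 0, 0, 2, 1), (0, 3, Sum.inl 0, 0, 3, -1),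
    (0, 4, Sum.inl 1, 0, 4, 1), (0, 5, Sum.inl 1, 0, 5, -1), (0, 6, Sum.inr 0, 0, 1, -1),
    (1, 0, Sum.inl 1, 1, 0, -1), (1, 2, Sum.inr 0, 6, 2, 1), (1, 3, Sum.inl 0, 1, 3, 1),
    (1, 4, Sum.inl 0, 1, 4, -1), (1, 5, Sum.inr 0, 1, 0, -1), (1, 6, Sum.inl 1, 1, 6, -1),
    (2, 0, Sum.inl 0, 2, 0, -1), (2, 1, Sum.inr 1, 6, 1, 1), (2, 3, Sum.inl 1, 2, 3, 1),
    (2, 4, Sum.inr 1, 2, 0, 1), (2, 5, Sum.inl 0, 2, 5, -1), (2, 6, Sum.inl 1, 2, 6, 1),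
    (3, 0, Sum.inl 0, 3, 0, 1), (3, 1, Sum.inl 0, 3, 1, -1), (3, 2, Sum.inl 1, 3, 2, -1),
    (3, 4, Sum.inl 1, 3, 4, 1), (3, 5, Sum.inl 0, 3, 5, 1), (3, 6, Sum.inl 0, 3, 6, -1),
    (4, 0, Sum.inl 1, 4, 0, -1), (4, 1, Sum.inl 0, 4, 1, 1), (4, 2, Sum.inr 3, 4, 0, -1),
    (4, 3, Sum.inl 1, 4, 3, -1), (4, 5, Sum.inr 0, 4, 0, -1), (4, 6, Sum.inl 0, 4, 6, 1),
    (5, 0, Sum.inl 1, 5, 0, 1), (5, 1, Sum.inr 4, 5, 0, 1), (5, 2, Sum.inl 0, 5, 2, 1),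
    (5, 3, Sum.inl 0, 5, 3, -1), (5, 4, Sum.inr 1, 5, 0, 1), (5, 6, Sum.inl 1, 5, 6, 1),
    (6, 0, Sum.inr 7, 5, 0, -1), (6, 1, Sum.inl 1, 6, 1, 1), (6, 2, Sum.inl 1, 6, 2, -1),
    (6, 3, Sum.inl 0, 6, 3, 1), (6, 4, Sum.inl 0, 6, 4, -1), (6, 5, Sum.inl 1, 6, 5, -1)]

/-- the coefficient of the entry `(a, b)` of `k` in the entry `(p, q)` of `k M - M k` -/
def commCoef (M : M7 ℤ) (p q a b : Fin 7) : ℤ := (if a = p then M b q else 0) - (if b = q then M p a else 0)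

theorem off_cert : ∀ i j : Fin 7, i ≠ j → ∃ m : chevG2.Idx, ∃ p q : Fin 7, ∃ s ∈ [(1 : ℤ), -1],
    ∀ a b : Fin 7, commCoef (bz m) p q a b = if a = i ∧ b = j then s else 0 := by
  intro i j hij
  have key : ∀ i j : Fin 7, i ≠ j → ((offTab.filter fun e => e.1 == i.val && e.2.1 == j.val).any fun e =>
      decide (e.2.2.2.2.2 ∈ [(1 : ℤ), -1] ∧ e.2.2.2.1 < 7 ∧ e.2.2.2.2.1 < 7 ∧ ∀ a b : Fin 7,
        commCoef (bz e.2.2.1) (Fin.ofNat 7 e.2.2.2.1) (Fin.ofNat 7 e.2.2.2.2.1) a b =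
          if a = i ∧ b = j then e.2.2.2.2.2 else 0)) = true := by decide +kernel
  obtain ⟨e, -, he⟩ := List.any_eq_true.1 (key i j hij)
  obtain ⟨h1, -, -, h2⟩ := of_decide_eq_true he
  exact ⟨e.2.2.1, _, _, _, h1, h2⟩

/-- the equations identifying the diagonal entries -/
def diagTab : List (ℕ × ℕ × ((Fin 2 ⊕ Fin 12) × ℕ × ℕ)) :=
  [(0, 5, Sum.inr 0, 5, 0), (1, 6, Sum.inr 0, 6, 1), (0, 4, Sum.inr 1, 4, 0), (2, 6, Sum.inr 1, 6, 2),
    (0, 3, Sum.inr 2, 3, 0), (1, 4, Sum.inr 2, 4, 1)]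

theorem diag_cert : ∀ e ∈ diagTab, ∃ s ∈ [(1 : ℤ), -1], ∀ a b : Fin 7,
    commCoef (bz e.2.2.1) (Fin.ofNat 7 e.2.2.2.1) (Fin.ofNat 7 e.2.2.2.2) a b =
      (if a.val = e.1 ∧ b.val = e.1 then s else 0) - (if a.val = e.2.1 ∧ b.val = e.2.1 then s else 0) := by
  decide +kernel

end Cfsg.Agent.Lib.G2Seven
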