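import Cfsg.Agent.Lib.G2Seven.Borel
import Mathlib.LinearAlgebra.Matrix.Charpoly.Coeff

/-!
Linear algebra of an element which is conjugate to a triangular matrix with known diagonal:
exponents from multiplicities, and rank one powers of the unipotent part against the invariant form.
-/

set_option autoImplicit false
set_option linter.unusedSectionVars false

namespace Cfsg.Agent.Lib.G2Seven

open Matrix Polynomial
open scoped MatrixGroups

variable {F : Type*} [Field F]

section Pow

variable {dim : ℕ} [DecidableEq F]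

set_option quotPrecheck false in
local notation "ι" => Fin dim

theorem aeval_eq_zero {M : Matrix ι ι F} {f : F[X]} (h : M.charpoly ∣ f) : aeval M f = 0 := by
  obtain ⟨g, rfl⟩ := h
  rw [map_mul, Matrix.aeval_self_charpoly, zero_mul]

theorem dvd_of_count {R : Multiset F} {f : F[X]} (hf : f ≠ 0) (h : ∀ a ∈ R, R.count a ≤ f.roots.count a) :
    (R.map fun a => Polynomial.X - Polynomial.C a).prod ∣ f := by
  classical
  refine (Multiset.prod_X_sub_C_dvd_iff_le_roots hf R).2 (Multiset.le_iff_count.2 fun a => ?_)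
  by_cases ha : a ∈ R
  · exact h a ha
  · simp [Multiset.count_eq_zero_of_notMem ha]

/-- exponent from the roots and their multiplicities -/
theorem pow_eq_one_of_roots (p k : ℕ) [Fact p.Prime] [CharP F p] {M : Matrix ι ι F} {R : Multiset F}
    (hM : M.charpoly = (R.map fun a => Polynomial.X - Polynomial.C a).prod) {N : ℕ} (hN : N ≠ 0)
    (hR : ∀ a ∈ R, a ^ N = 1) (hc : ∀ a ∈ R, R.count a ≤ p ^ k) : M ^ (N * p ^ k) = 1 := by
  classical
  have h0 : (Polynomial.X ^ N - 1 : F[X]) ≠ 0 := by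
    rw [← Polynomial.C_1]; exact X_pow_sub_C_ne_zero (Nat.pos_of_ne_zero hN) 1
  have he : ((Polynomial.X ^ N - 1 : F[X]) ^ (p ^ k)) = Polynomial.X ^ (N * p ^ k) - 1 := by
    rw [sub_pow_char_pow, ← pow_mul, one_pow]
  have hd : M.charpoly ∣ (Polynomial.X ^ N - 1 : F[X]) ^ (p ^ k) := by
    rw [hM]
    refine dvd_of_count (pow_ne_zero _ h0) fun a ha => ?_
    rw [Polynomial.roots_pow, Multiset.count_nsmul]
    have h1 : 1 ≤ (Polynomial.X ^ N - 1 : F[X]).roots.count a := by
      rw [Multiset.one_le_count_iff_mem, mem_roots h0]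
      simp [hR a ha]
    calc R.count a ≤ p ^ k := hc a ha
      _ = p ^ k * 1 := (mul_one _).symm
      _ ≤ _ := Nat.mul_le_mul_left _ h1
  have h := aeval_eq_zero hd
  rwa [he, map_sub, map_pow, aeval_X, map_one, sub_eq_zero] at h

/-- the kernel of an upper triangular matrix is at most as large as the number of zeros on the diagonal -/
theorem finrank_ker_le {T : Matrix ι ι F} (hT : T.IsUpperTriangular) (Z : Finset ι)
    (hZ : ∀ i, T i i = 0 → i ∈ Z) : Module.finrank F (LinearMap.ker T.mulVecLin) ≤ Z.card := by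
  let φ : LinearMap.ker T.mulVecLin →ₗ[F] (Z → F) :=
    (LinearMap.funLeft F F (Subtype.val : Z → ι)).comp (LinearMap.ker T.mulVecLin).subtype
  have hφ : Function.Injective φ := by
    rw [← LinearMap.ker_eq_bot, LinearMap.ker_eq_bot']
    rintro ⟨v, hv⟩ h
    rw [Submodule.mk_eq_zero]
    by_contra hne
    have hs : (Finset.univ.filter fun i => v i ≠ 0).Nonempty := by
      obtain ⟨i, hi⟩ := Function.ne_iff.1 hne
      exact ⟨i, by simpa using hi⟩
    set i := (Finset.univ.filter fun i => v i ≠ 0).max' hs with hi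
    have hvi : v i ≠ 0 := (Finset.mem_filter.1 ((Finset.univ.filter fun i => v i ≠ 0).max'_mem hs)).2
    have hiZ : i ∉ Z := fun hz => hvi (congrFun h ⟨i, hz⟩)
    have h1 : (T *ᵥ v) i = 0 := congrFun hv i
    rw [Matrix.mulVec, dotProduct, Finset.sum_eq_single i (fun j _ hj => ?_) (by simp)] at h1
    · exact hiZ (hZ i ((mul_eq_zero.1 h1).resolve_right hvi))
    · rcases lt_or_gt_of_ne hj with hlt | hgt
      · rw [show T i j = 0 from hT hlt, zero_mul]
      · have : v j = 0 := by
          by_contra hvj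
          exact not_lt.2 ((Finset.univ.filter fun i => v i ≠ 0).le_max' j (by simp [hvj])) hgt
        rw [this, mul_zero]
  have h := LinearMap.finrank_le_finrank_of_injective hφ
  rwa [Module.finrank_fintype_fun_eq_card, Fintype.card_coe] at h

theorem upper_pow {M : Matrix ι ι F} (hM : M.IsUpperTriangular) :
    ∀ n : ℕ, (M ^ n).IsUpperTriangular ∧ ∀ i, (M ^ n) i i = M i i ^ n
  | 0 => ⟨by rw [pow_zero]; exact Matrix.blockTriangular_one, fun i => by simp⟩
  | n + 1 => by
    obtain ⟨h1, h2⟩ := upper_pow hM n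
    rw [pow_succ]
    refine ⟨Matrix.BlockTriangular.mul h1 hM, fun i => ?_⟩
    rw [Matrix.mul_apply, Finset.sum_eq_single i (fun k _ hk => ?_) (by simp), h2, pow_succ]
    rcases lt_or_gt_of_ne hk with h | h
    · rw [h1 h, zero_mul]
    · rw [hM h, mul_zero]

/-- a matrix similar to a triangular one with given diagonal -/
def HasDiag (M : Matrix ι ι F) (d : ι → F) : Prop :=
  ∃ U : (Matrix ι ι F)ˣ, ((U⁻¹ : (Matrix ι ι F)ˣ).val * M * U.val).IsUpperTriangular ∧
    ∀ i, ((U⁻¹ : (Matrix ι ι F)ˣ).val * M * U.val) i i = d i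

theorem HasDiag.charpoly {M : Matrix ι ι F} {d : ι → F} (h : HasDiag M d) :
    M.charpoly = ((Finset.univ.val.map d).map fun a => Polynomial.X - Polynomial.C a).prod := by
  obtain ⟨U, hu, hd⟩ := h
  have e : ((U⁻¹ : (Matrix ι ι F)ˣ).val * M * U.val).charpoly = M.charpoly := by
    rw [Matrix.coe_units_inv]
    exact Matrix.charpoly_units_conj' U M
  rw [← e, Matrix.charpoly_of_upperTriangular _ hu, Multiset.map_map]
  exact Finset.prod_congr rfl fun i _ => by
    simp only [Function.comp_apply]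
    rw [← hd i, Matrix.coe_units_inv]

theorem HasDiag.finrank_ker {M : Matrix ι ι F} {d : ι → F} (h : HasDiag M d) (a : F) (n : ℕ) :
    Module.finrank F (LinearMap.ker ((M - Matrix.scalar ι a) ^ n).mulVecLin) ≤
      (Finset.univ.filter fun i => d i = a).card := by
  obtain ⟨U, hu, hd⟩ := h
  set T := (U⁻¹ : (Matrix ι ι F)ˣ).val * M * U.val - Matrix.scalar ι a with hT
  have hTu : T.IsUpperTriangular := fun i j hij => by
    rw [hT, Matrix.sub_apply, hu hij, Matrix.scalar_apply, Matrix.diagonal_apply_ne _ (ne_of_gt (show j < i from hij)), sub_zero]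
  obtain ⟨h1, h2⟩ := upper_pow hTu n
  have e : T ^ n = (U⁻¹ : (Matrix ι ι F)ˣ).val * (M - Matrix.scalar ι a) ^ n * U.val := by
    have : T = (U⁻¹ : (Matrix ι ι F)ˣ).val * (M - Matrix.scalar ι a) * U.val := by
      rw [hT, mul_sub, sub_mul, mul_assoc _ (Matrix.scalar ι a), (Matrix.scalar_commute a (fun _ => mul_comm _ _) U.val).eq,
        ← mul_assoc _ U.val, Units.inv_mul, one_mul]
    rw [this, Units.conj_pow' U]
  have hle : Module.finrank F (LinearMap.ker ((M - Matrix.scalar ι a) ^ n).mulVecLin) ≤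
      Module.finrank F (LinearMap.ker (T ^ n).mulVecLin) := by
    let φ : LinearMap.ker ((M - Matrix.scalar ι a) ^ n).mulVecLin →ₗ[F] LinearMap.ker (T ^ n).mulVecLin :=
      ((U⁻¹ : (Matrix ι ι F)ˣ).val.mulVecLin.comp (LinearMap.ker ((M - Matrix.scalar ι a) ^ n).mulVecLin).subtype).codRestrict _
        fun v => by
          have hv : (M - Matrix.scalar ι a) ^ n *ᵥ v.1 = 0 := v.2
          show T ^ n *ᵥ ((U⁻¹ : (Matrix ι ι F)ˣ).val *ᵥ v.1) = 0
          rw [e, Matrix.mulVec_mulVec, Units.mul_inv_cancel_right, ← Matrix.mulVec_mulVec, hv, Matrix.mulVec_zero]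
    refine LinearMap.finrank_le_finrank_of_injective (f := φ) fun x y hxy => Subtype.ext ?_
    have h' : (U⁻¹ : (Matrix ι ι F)ˣ).val *ᵥ x.1 = (U⁻¹ : (Matrix ι ι F)ˣ).val *ᵥ y.1 := congrArg Subtype.val hxy
    have h'' := congrArg (fun w => U.val *ᵥ w) h'
    simpa [Matrix.mulVec_mulVec] using h''
  refine hle.trans (finrank_ker_le h1 _ fun i hi => ?_)
  rcases Nat.eq_zero_or_pos n with rfl | hn
  · simp at hi
  · rw [h2, pow_eq_zero_iff hn.ne'] at hi
    rw [hT, Matrix.sub_apply, hd, Matrix.scalar_apply, Matrix.diagonal_apply_eq, sub_eq_zero] at hi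
    exact Finset.mem_filter.2 ⟨Finset.mem_univ i, hi⟩

theorem nil_rank_le {V : Type*} [AddCommGroup V] [Module F V] [FiniteDimensional F V] (A : Module.End F V)
    (m : ℕ) (h : Module.finrank F (LinearMap.ker (A ^ (m + 1))) ≤ m + 1) :
    Module.finrank F ((LinearMap.ker (A ^ (m + 1))).map (A ^ m)) ≤ 1 := by
  set K := LinearMap.ker (A ^ (m + 1)) with hK
  have hrn := ((A ^ m).domRestrict K).finrank_range_add_finrank_ker
  rw [LinearMap.range_domRestrict, LinearMap.ker_domRestrict] at hrn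
  have hker : Module.finrank F ((LinearMap.ker (A ^ m)).comap K.subtype) = Module.finrank F (LinearMap.ker (A ^ m)) := by
    refine LinearEquiv.finrank_eq (Submodule.comapSubtypeEquivOfLe ?_)
    intro x hx
    rw [hK, LinearMap.mem_ker, pow_succ', Module.End.mul_apply, LinearMap.mem_ker.1 hx, map_zero]
  rw [hker] at hrn
  by_cases hstab : ∃ j ≤ m, LinearMap.ker (A ^ j) = LinearMap.ker (A ^ (j + 1))
  · obtain ⟨j, hjm, hj⟩ := hstab
    have e1 : LinearMap.ker (A ^ m) = LinearMap.ker (A ^ j) := by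
      obtain ⟨d, rfl⟩ := Nat.le.dest hjm
      exact (Module.End.ker_pow_constant hj d).symm
    have e2 : K = LinearMap.ker (A ^ j) := by
      obtain ⟨d, rfl⟩ := Nat.le.dest hjm
      exact (Module.End.ker_pow_constant hj (d + 1)).symm
    rw [e1, ← e2] at hrn
    omega
  · push Not at hstab
    have grow : ∀ j, j ≤ m → j ≤ Module.finrank F (LinearMap.ker (A ^ j)) := by
      intro j
      induction j with
      | zero => intro _; exact Nat.zero_le _
      | succ j ih =>
        intro hj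
        have hle : LinearMap.ker (A ^ j) ≤ LinearMap.ker (A ^ (j + 1)) := fun x hx => by
          rw [LinearMap.mem_ker, pow_succ', Module.End.mul_apply, LinearMap.mem_ker.1 hx, map_zero]
        have := Submodule.finrank_lt_finrank_of_lt (lt_of_le_of_ne hle (hstab j (by omega)))
        have := ih (by omega)
        omega
    have := grow m le_rfl
    omega

/-- a polynomial in `M` through the highest power of one eigenvalue factor has rank at most one -/
theorem rank_le_one {M : Matrix ι ι F} {d : ι → F} (h : HasDiag M d) (a : F) (m : ℕ) (S : F[X])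
    (hS : M.charpoly ∣ (Polynomial.X - Polynomial.C a) ^ (m + 1) * S) (hc : (Finset.univ.filter fun i => d i = a).card ≤ m + 1) :
    ∃ w : ι → F, ∀ x : ι → F, ∃ b : F, aeval M ((Polynomial.X - Polynomial.C a) ^ m * S) *ᵥ x = b • w := by
  set A : Module.End F (ι → F) := (M - Matrix.scalar ι a).mulVecLin with hA
  have hpow : ∀ n, A ^ n = ((M - Matrix.scalar ι a) ^ n).mulVecLin := fun n => by
    rw [hA, ← Matrix.toLin'_apply', ← Matrix.toLin'_apply', ← Matrix.toLin'_pow]
  have h1 := nil_rank_le A m (by rw [hpow]; exact (h.finrank_ker a (m + 1)).trans hc)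
  obtain ⟨w, hw⟩ := finrank_le_one_iff.1 h1
  refine ⟨w.1, fun x => ?_⟩
  have hsc : aeval M (Polynomial.X - Polynomial.C a) = M - Matrix.scalar ι a := by simp [Matrix.scalar_apply, Algebra.algebraMap_eq_smul_one, Matrix.smul_one_eq_diagonal]
  have hmem : aeval M S *ᵥ x ∈ LinearMap.ker (A ^ (m + 1)) := by
    rw [LinearMap.mem_ker, hpow, Matrix.mulVecLin_apply, Matrix.mulVec_mulVec, ← hsc, ← map_pow, ← map_mul,
      aeval_eq_zero hS, Matrix.zero_mulVec]
  obtain ⟨b, hb⟩ := hw ⟨_, Submodule.mem_map_of_mem hmem⟩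
  refine ⟨b, ?_⟩
  have := congrArg Subtype.val hb
  simp only [SetLike.val_smul] at this
  rw [this, hpow, Matrix.mulVecLin_apply, Matrix.mulVec_mulVec, map_mul, map_pow, hsc]

end Pow

section Form

theorem B_smul_left (a : F) (v w : Fin 7 → F) : B (a • v) w = a * B v w := by
  simp only [B_eq, Pi.smul_apply, smul_eq_mul]; ring

theorem B_sub_left (u v w : Fin 7 → F) : B (u - v) w = B u w - B v w := by
  simp only [B_eq, Pi.sub_apply]; ring

theorem B_sub_right (u v w : Fin 7 → F) : B u (v - w) = B u v - B u w := by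
  simp only [B_eq, Pi.sub_apply]; ring

theorem B_smul_right (a : F) (v w : Fin 7 → F) : B v (a • w) = a * B v w := by
  simp only [B_eq, Pi.smul_apply, smul_eq_mul]; ring

theorem B_radical {w : Fin 7 → F} (h : ∀ y, B w y = 0) : ∀ i, i ≠ 3 → w i = 0 := by
  intro i hi
  have := h (Pi.single i.rev 1)
  fin_cases i <;> simp_all [B_eq]

theorem rank_one_eq_zero {D : Matrix (Fin 7) (Fin 7) F} {w : Fin 7 → F} (hw : ∀ x, ∃ b : F, D *ᵥ x = b • w)
    (halt : ∀ x, B (D *ᵥ x) x = 0) : ∀ x y, B (D *ᵥ x) y = 0 := by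
  intro x y
  obtain ⟨b, hb⟩ := hw x
  obtain ⟨c, hc⟩ := hw y
  rw [hb, B_smul_left]
  have h1 := halt x
  have h2 := halt y
  have h3 := halt (x + y)
  rw [hb, B_smul_left] at h1
  rw [hc, B_smul_left] at h2
  rw [Matrix.mulVec_add, hb, hc, ← add_smul, B_smul_left] at h3
  have e : B w (x + y) = B w x + B w y := by simp only [B_eq, Pi.add_apply]; ring
  rw [e] at h3
  rcases mul_eq_zero.1 h1 with rfl | hx
  · exact zero_mul _
  rcases mul_eq_zero.1 h2 with rfl | hy
  · rw [hx] at h3
    linear_combination h3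
  · rw [hy, mul_zero]

variable {h hi : Matrix (Fin 7) (Fin 7) F} (hh : h * hi = 1) (hh' : hi * h = 1)
  (hQ : ∀ v : Fin 7 → F, Q (h *ᵥ v) = Q v)
include hh hh' hQ

theorem B_inv (v w : Fin 7 → F) : B (h *ᵥ v) (h *ᵥ w) = B v w := by
  rw [B_polar, B_polar, ← Matrix.mulVec_add, hQ, hQ, hQ]

theorem B_adj (v w : Fin 7 → F) : B ((h - 1) *ᵥ v) w = B v ((hi - 1) *ᵥ w) := by
  rw [Matrix.sub_mulVec, Matrix.sub_mulVec, Matrix.one_mulVec, Matrix.one_mulVec, B_sub_left, B_sub_right]
  congr 1
  conv_lhs => rw [← Matrix.one_mulVec w, ← hh, ← Matrix.mulVec_mulVec]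
  exact B_inv hh hh' hQ _ _

theorem B_adj_pow : ∀ (n : ℕ) (v w : Fin 7 → F), B ((h - 1) ^ n *ᵥ v) w = B v ((hi - 1) ^ n *ᵥ w)
  | 0, v, w => by simp
  | n + 1, v, w => by
    rw [pow_succ', ← Matrix.mulVec_mulVec, B_adj hh hh' hQ, B_adj_pow n, Matrix.mulVec_mulVec, ← pow_succ]

theorem inv_sub_pow {m : ℕ} (h0 : (h - 1) ^ (m + 1) = 0) : (hi - 1) ^ m = (-1 : F) ^ m • (h - 1) ^ m := by
  have e : hi - 1 = (-1 : F) • ((h - 1) * hi) := by rw [sub_mul, hh, one_mul]; simp
  have hc : Commute (h - 1) hi := (show Commute h hi from hh.trans hh'.symm).sub_left (Commute.one_left _)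
  rw [e, _root_.smul_pow, hc.mul_pow]
  congr 1
  have h1 : (h - 1) ^ m * hi = (h - 1) ^ m := by
    have : (h - 1) ^ m * h = (h - 1) ^ m := by
      have := h0
      rw [pow_succ, mul_sub, mul_one, sub_eq_zero] at this
      exact this
    conv_lhs => rw [← this, mul_assoc, hh, mul_one]
  have : ∀ k, (h - 1) ^ m * hi ^ k = (h - 1) ^ m := fun k => by
    induction k with
    | zero => simp
    | succ k ih => rw [pow_succ, ← mul_assoc, ih, h1]
  exact this m

/-- in odd characteristic an odd top power of the unipotent part of rank one vanishes -/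
theorem top_eq_zero_odd (h2 : (2 : F) ≠ 0) {m : ℕ} (hm : Odd m) (h0 : (h - 1) ^ (m + 1) = 0) {w : Fin 7 → F}
    (hw : ∀ x, ∃ b : F, (h - 1) ^ m *ᵥ x = b • w) : (h - 1) ^ m = 0 := by
  have halt : ∀ x, B ((h - 1) ^ m *ᵥ x) x = 0 := by
    intro x
    have e := B_adj_pow hh hh' hQ m x x
    rw [inv_sub_pow hh hh' hQ h0, hm.neg_one_pow, Matrix.smul_mulVec, B_smul_right, B_symm x] at e
    have : (2 : F) * B ((h - 1) ^ m *ᵥ x) x = 0 := by linear_combination e
    exact (mul_eq_zero.1 this).resolve_left h2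
  have hr := rank_one_eq_zero hw halt
  refine Matrix.ext_of_mulVec_single fun j => ?_
  rw [Matrix.zero_mulVec]
  funext i
  have h3 : ((h - 1) ^ m *ᵥ Pi.single j 1) 3 = 0 := by
    have := hr (Pi.single j 1) (Pi.single 3 1)
    simp [B_eq] at this
    rcases this with h' | h'
    · exact absurd h' h2
    · simpa [Matrix.mulVec_single] using h'
  by_cases hi3 : i = 3
  · subst hi3; exact h3
  · exact B_radical (hr (Pi.single j 1)) i hi3

/-- in characteristic two a square of the unipotent part of rank one vanishes -/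
theorem top_eq_zero_two [CharP F 2] (h0 : (h - 1) ^ 3 = 0) {w : Fin 7 → F}
    (hw : ∀ x, ∃ b : F, (h - 1) ^ 2 *ᵥ x = b • w) : (h - 1) ^ 2 = 0 := by
  have h2 : (2 : F) = 0 := CharTwo.two_eq_zero
  have hBs : ∀ v : Fin 7 → F, B v v = 0 := fun v => by
    simp only [B_eq]; linear_combination (v 1 * v 5 - v 0 * v 6 - v 2 * v 4 + v 3 * v 3) * h2
  have halt : ∀ x, B ((h - 1) ^ 2 *ᵥ x) x = 0 := by
    intro x
    set u := (h - 1) *ᵥ x with hu
    have e1 : B ((h - 1) ^ 2 *ᵥ x) x = B u ((hi - 1) *ᵥ x) := by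
      rw [pow_two, ← Matrix.mulVec_mulVec, ← hu, B_adj hh hh' hQ]
    have e2 : (hi - 1) *ᵥ x = -u + (h - 1) *ᵥ u := by
      have e : hi - 1 = -(h - 1) + (h - 1) ^ 2 := by
        have e3 : (1 - (h - 1) + (h - 1) ^ 2) * h = 1 := by
          have : (1 - (h - 1) + (h - 1) ^ 2) * h = 1 + (h - 1) ^ 3 := by noncomm_ring
          rw [this, h0, add_zero]
        calc hi - 1 = (1 - (h - 1) + (h - 1) ^ 2) * h * hi - 1 := by rw [e3, one_mul]
          _ = _ := by rw [mul_assoc, hh, mul_one]; abel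
      rw [e, Matrix.add_mulVec, Matrix.neg_mulVec, pow_two, ← Matrix.mulVec_mulVec]
    have e4 : B u ((h - 1) *ᵥ u) = 0 := by
      have e5 : B ((h *ᵥ u)) ((h *ᵥ u)) = 0 := hBs _
      have e6 : B u ((h - 1) *ᵥ u) = B (h *ᵥ x - x) ((h - 1) *ᵥ u) := by
        rw [hu, Matrix.sub_mulVec h 1 x, Matrix.one_mulVec]
      have e7 : B x ((hi - 1) *ᵥ ((h - 1) *ᵥ u)) = 0 := by
        have : (hi - 1) *ᵥ ((h - 1) *ᵥ u) = 0 := by
          rw [hu, Matrix.mulVec_mulVec, Matrix.mulVec_mulVec]
          have : (hi - 1) * (h - 1) * (h - 1) = -(hi * (h - 1) ^ 3) := by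
            have e : hi - 1 = -(hi * (h - 1)) := by rw [mul_sub, hh', mul_one]; abel
            rw [e]; noncomm_ring
          rw [this, h0, mul_zero, neg_zero, Matrix.zero_mulVec]
        rw [this]; simp [B_eq]
      rw [hu, B_adj hh hh' hQ, ← hu]
      exact e7
    rw [e1, e2]
    have : B u (-u + (h - 1) *ᵥ u) = - B u u + B u ((h - 1) *ᵥ u) := by
      simp only [B_eq, Pi.add_apply, Pi.neg_apply]; ring
    rw [this, hBs, e4, neg_zero, add_zero]
  have hr := rank_one_eq_zero hw halt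
  refine Matrix.ext_of_mulVec_single fun j => ?_
  rw [Matrix.zero_mulVec]
  set x : Fin 7 → F := Pi.single j 1 with hx
  set z := (h - 1) ^ 2 *ᵥ x with hz
  have hz0 : ∀ i, i ≠ 3 → z i = 0 := B_radical (hr x)
  have hsq : h * h - 1 = (h - 1) ^ 2 := by
    have : (h - 1) ^ 2 = h * h - 1 - (2 : F) • (h - 1) := by
      rw [two_smul]; noncomm_ring
    rw [this, h2, zero_smul, sub_zero]
  have hQ2 : Q (x + z) = Q x := by
    have : x + z = h *ᵥ (h *ᵥ x) := by
      rw [hz, ← hsq, Matrix.sub_mulVec, Matrix.one_mulVec, Matrix.mulVec_mulVec]; abel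
    rw [this, hQ, hQ]
  have h3 : z 3 * z 3 = 0 := by
    simp only [Q_eq, Pi.add_apply, hz0 0 (by decide), hz0 1 (by decide), hz0 2 (by decide), hz0 4 (by decide),
      hz0 5 (by decide), hz0 6 (by decide), add_zero] at hQ2
    linear_combination hQ2 - x 3 * z 3 * h2
  funext i
  by_cases hi3 : i = 3
  · subst hi3; exact mul_self_eq_zero.1 h3
  · exact hz0 i hi3

end Form

end Cfsg.Agent.Lib.G2Seven
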