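import Cfsg.Agent.Lib.G2Seven.Rep
import Cfsg.Agent.Lib.ChevStructure.BN
import Cfsg.Agent.Lib.ChevFixed.Field

/-!
The torus, the Borel subgroup and the Weyl representatives in the seven-dimensional representation.
-/

set_option autoImplicit false
set_option linter.unusedSectionVars false
set_option maxRecDepth 100000

namespace Cfsg.Agent.Lib.G2Seven

open Cfsg.Lie Cfsg.Agent.Lib.ChevStructure Matrix
open scoped MatrixGroups

/-- the weights -/
def wexp (j : Fin chevG2.rank) (i : Fin 7) : ℤ :=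
  if j.val = 0 then ![1, -1, 2, 0, -2, 1, -1] i else ![0, 1, -1, 0, 1, -1, 0] i

theorem wexp_rev : ∀ (j : Fin chevG2.rank) (i : Fin 7), wexp j i + wexp j i.rev = 0 := by decide +kernel

theorem wexp_sum : ∀ j : Fin chevG2.rank, ∑ i, wexp j i = 0 := by decide +kernel

theorem wexp_three : ∀ j : Fin chevG2.rank, wexp j 3 = 0 := by decide +kernel

theorem wexp_inl : ∀ (m : Fin chevG2.rank) (i j : Fin 7), bz (Sum.inl m) i j = 0 ∨ i = j := by
  intro m i j
  by_cases h : i = j
  · exact Or.inr h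
  · exact Or.inl (Matrix.diagonal_apply_ne _ h)

theorem wexp_inr : ∀ (r : Rt chevG2) (i j : Fin 7), bz (Sum.inr r) i j = 0 ∨
    ∀ m, wexp m i - wexp m j = A chevG2 m r := by
  have h : ∀ p : Rt chevG2 × Fin 7 × Fin 7, decide (bz (Sum.inr p.1) p.2.1 p.2.2 = 0) = true ∨
      decide (∀ m, wexp m p.2.1 - wexp m p.2.2 = A chevG2 m p.1) = true := by decide +kernel
  intro r i j
  simpa using h (r, i, j)

variable {F : Type*} [Field F]

/-- the diagonal of a torus element -/
def wd (c : Fin chevG2.rank → Fˣ) (i : Fin 7) : Fˣ := ∏ j, c j ^ wexp j i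

theorem wd_rev (c : Fin chevG2.rank → Fˣ) (i : Fin 7) : wd c i * wd c i.rev = 1 := by
  simp [wd, ← Finset.prod_mul_distrib, ← _root_.zpow_add, wexp_rev]

theorem wd_three (c : Fin chevG2.rank → Fˣ) : wd c 3 = 1 := by simp [wd, wexp_three]

theorem wd_prod (c : Fin chevG2.rank → Fˣ) : ∏ i, wd c i = 1 := by
  unfold wd
  rw [Finset.prod_comm]
  refine Finset.prod_eq_one fun j _ => ?_
  rw [← C.zpow_fsum, wexp_sum, _root_.zpow_zero]

/-- the diagonal matrix of a torus element -/
def tor (c : Fin chevG2.rank → Fˣ) : GL (Fin 7) F where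
  val := Matrix.diagonal fun i => (wd c i : F)
  inv := Matrix.diagonal fun i => (((wd c i)⁻¹ : Fˣ) : F)
  val_inv := by simp [Matrix.diagonal_mul_diagonal]
  inv_val := by simp [Matrix.diagonal_mul_diagonal]

theorem tor_val (c : Fin chevG2.rank → Fˣ) :
    ((tor c : GL (Fin 7) F) : M7 F) = Matrix.diagonal fun i => (wd c i : F) := rfl

theorem tor_det (c : Fin chevG2.rank → Fˣ) : ((tor c : GL (Fin 7) F) : M7 F).det = 1 := by
  rw [tor_val, Matrix.det_diagonal, ← Units.coe_prod, wd_prod, Units.val_one]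

theorem tor_Q (c : Fin chevG2.rank → Fˣ) (v : Fin 7 → F) : Q (((tor c : GL (Fin 7) F) : M7 F) *ᵥ v) = Q v := by
  have h : ∀ i : Fin 7, (wd c i : F) * (wd c i.rev : F) = 1 := fun i => by
    rw [← Units.val_mul, wd_rev, Units.val_one]
  have h0 : (wd c 0 : F) * (wd c 6 : F) = 1 := h 0
  have h1 : (wd c 1 : F) * (wd c 5 : F) = 1 := h 1
  have h2 : (wd c 2 : F) * (wd c 4 : F) = 1 := h 2
  simp only [Q_eq, tor_val, Matrix.mulVec_diagonal, wd_three, Units.val_one]
  linear_combination (-(v 0) * v 6) * h0 + (v 1 * v 5) * h1 + (-(v 2) * v 4) * h2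

/-- a torus element of the group -/
noncomputable def T (c : Fin chevG2.rank → Fˣ) : ↥(chevG2.group F) := ⟨C.HT F c, C.HT_mem_group c⟩

theorem seven_T (c : Fin chevG2.rank → Fˣ) : seven (T c) = tor c := by
  refine seven_eq (tor_det c) (tor_Q c) fun k => ?_
  ext i j
  have hl : ((tor c : GL (Fin 7) F) : M7 F) * bR k * (((tor c)⁻¹ : GL (Fin 7) F) : M7 F) =
      Matrix.of fun i j => (wd c i : F) * (bR k : M7 F) i j * (((wd c j)⁻¹ : Fˣ) : F) := by
    ext a b
    show ((Matrix.diagonal fun i => (wd c i : F)) * (bR k : M7 F) * (Matrix.diagonal fun i => (((wd c i)⁻¹ : Fˣ) : F))) a b = _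
    simp [Matrix.mul_diagonal, Matrix.diagonal_mul]
  have hr : ∑ l, ((C.HT F c : GL chevG2.Idx F) : Matrix chevG2.Idx chevG2.Idx F) l k • (bR l : M7 F) =
      (Sum.elim (fun _ => (1 : F)) (fun s => (C.chA c s : F)) k) • bR k := by
    rw [Finset.sum_eq_single k]
    · congr 1
      rcases k with m | r <;> simp [Core.HT, Core.diag, Core.chA]
    · intro l _ hl
      have : ((C.HT F c : GL chevG2.Idx F) : Matrix chevG2.Idx chevG2.Idx F) l k = 0 := by
        simp [Core.HT, Core.diag, hl]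
      rw [this, zero_smul]
    · simp
  rw [show ((T c : ↥(chevG2.group F)) : GL chevG2.Idx F) = C.HT F c from rfl, hr, hl, Matrix.of_apply,
    Matrix.smul_apply, smul_eq_mul]
  rcases k with m | r
  · rcases wexp_inl m i j with h | rfl
    · simp [bR, cst_apply, h]
    · simp only [Sum.elim_inl, one_mul]
      rw [mul_comm _ ((bR (Sum.inl m) : M7 F) i i), mul_assoc, ← Units.val_mul, mul_inv_cancel, Units.val_one,
        mul_one]
  · rcases wexp_inr r i j with h | h
    · simp [bR, cst_apply, h]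
    · simp only [Sum.elim_inr]
      rw [mul_comm _ ((bR (Sum.inr r) : M7 F) i j), mul_assoc, ← Units.val_mul, mul_comm ((C.chA c r : Fˣ) : F)]
      congr 2
      rw [Core.chA, wd, wd, ← Finset.prod_inv_distrib, ← Finset.prod_mul_distrib]
      refine Finset.prod_congr rfl fun m _ => ?_
      rw [← _root_.zpow_neg, ← _root_.zpow_add, ← sub_eq_add_neg, h]

theorem upper_mul {M N : M7 F} (hM : M.IsUpperTriangular) (hN : N.IsUpperTriangular) :
    (M * N).IsUpperTriangular ∧ ∀ i, (M * N) i i = M i i * N i i := by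
  refine ⟨Matrix.BlockTriangular.mul hM hN, fun i => ?_⟩
  rw [Matrix.mul_apply, Finset.sum_eq_single i (fun k _ hk => ?_) (by simp)]
  rcases lt_or_gt_of_ne hk with h | h
  · rw [hM h, zero_mul]
  · rw [hN h, mul_zero]

theorem seven_US {g : GL chevG2.Idx F} (hg : g ∈ C.US F C.Pos) :
    ∀ hm : g ∈ chevG2.group F, ((seven ⟨g, hm⟩ : GL (Fin 7) F) : M7 F).IsUpperTriangular ∧
      ∀ i, ((seven ⟨g, hm⟩ : GL (Fin 7) F) : M7 F) i i = 1 := by
  have hgen : ∀ r ∈ C.Pos, ∀ t : F, ∀ hm : C.X F r t ∈ chevG2.group F,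
      ((seven ⟨C.X F r t, hm⟩ : GL (Fin 7) F) : M7 F).IsUpperTriangular ∧
      ∀ i, ((seven ⟨C.X F r t, hm⟩ : GL (Fin 7) F) : M7 F) i i = 1 := by
    intro r hr t hm
    have h6 : 6 ≤ r.val := by
      have h12 : chevG2.nroots = 12 := rfl
      have : chevG2.nroots ≤ 2 * r.val := hr
      omega
    rw [show (⟨C.X F r t, hm⟩ : ↥(chevG2.group F)) = X r t from rfl, seven_X, xg_val]
    refine ⟨upper_xm h6 t, fun i => ?_⟩
    have h : ∀ M : M7 ℤ, (∀ a b, M a b ≠ 0 → a < b) → M i i = 0 := fun M hM => by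
      by_contra h
      exact lt_irrefl _ (hM i i h)
    have hX := h (Xz r) fun a b hab => by simpa [h6] using tri_tab r a b (Or.inl hab)
    have hA := h (Az r) fun a b hab => by simpa [h6] using tri_tab r a b (Or.inr hab)
    simp [xm, cst_apply, hX, hA]
  induction hg using Subgroup.closure_induction'' with
  | mem g hg => obtain ⟨r, hr, t, rfl⟩ := hg; exact hgen r hr t
  | inv_mem g hg =>
    obtain ⟨r, hr, t, rfl⟩ := hg
    rw [C.X_inv]
    exact hgen r hr (-t)
  | one =>
    intro hm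
    rw [show (⟨1, hm⟩ : ↥(chevG2.group F)) = 1 from rfl, map_one, Units.val_one]
    exact ⟨Matrix.blockTriangular_one, fun i => Matrix.one_apply_eq i⟩
  | mul g h hg hh i1 i2 =>
    intro hm
    have hgG := C.US_le_group (F := F) C.Pos hg
    have hhG := C.US_le_group (F := F) C.Pos hh
    rw [show (⟨g * h, hm⟩ : ↥(chevG2.group F)) = ⟨g, hgG⟩ * ⟨h, hhG⟩ from rfl, map_mul, Units.val_mul]
    obtain ⟨a1, a2⟩ := i1 hgG
    obtain ⟨b1, b2⟩ := i2 hhG
    obtain ⟨c1, c2⟩ := upper_mul a1 b1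
    exact ⟨c1, fun i => by rw [c2, a2, b2, one_mul]⟩

theorem seven_borel {g : ↥(chevG2.group F)} (hg : (g : GL chevG2.Idx F) ∈ chevG2.borelSubgroup F) :
    ((seven g : GL (Fin 7) F) : M7 F).IsUpperTriangular ∧
      ∃ c : Fin chevG2.rank → Fˣ, ∀ i, ((seven g : GL (Fin 7) F) : M7 F) i i = (wd c i : F) := by
  obtain ⟨u, hu, h, hh, e⟩ := C.mem_borel_iff.1 hg
  obtain ⟨c, rfl⟩ := C.mem_diagonal_iff.1 hh
  have hg' : g = ⟨u, C.US_le_group C.Pos hu⟩ * T c := Subtype.ext e
  obtain ⟨a1, a2⟩ := seven_US hu (C.US_le_group C.Pos hu)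
  have b1 : ((seven (T c) : GL (Fin 7) F) : M7 F).IsUpperTriangular := by
    rw [seven_T, tor_val]; exact Matrix.blockTriangular_diagonal _
  obtain ⟨c1, c2⟩ := upper_mul a1 b1
  rw [hg', map_mul, Units.val_mul]
  refine ⟨c1, c, fun i => ?_⟩
  rw [c2, a2, one_mul, seven_T, tor_val, Matrix.diagonal_apply_eq]

/-- the monomial matrix of a simple reflection -/
def nz (r : Rt chevG2) : M7 ℤ := (1 + Xz r + Az r) * (1 - Xz r.rev + Az r.rev) * (1 + Xz r + Az r)

/-- a Weyl representative in the group -/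
noncomputable def Pg (i : Fin chevG2.rank) : ↥(chevG2.group F) := ⟨C.P F i, C.P_mem_group i⟩

theorem seven_Pg (i : Fin chevG2.rank) :
    ((seven (Pg i : ↥(chevG2.group F)) : GL (Fin 7) F) : M7 F) = cst (nz (C.p i)) := by
  have e : (Pg i : ↥(chevG2.group F)) = X (C.p i) 1 * X (C.p i).rev (-1) * X (C.p i) 1 := by
    refine Subtype.ext ?_
    show C.P F i = C.X F (C.p i) 1 * C.X F (C.p i).rev (-1) * C.X F (C.p i) 1
    simp [Core.P, Core.nR]
  rw [e, map_mul, map_mul, seven_X, seven_X, Units.val_mul, Units.val_mul, xg_val, xg_val]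
  simp [nz, xm, sub_eq_add_neg]

theorem p_val : (C.p ⟨0, by decide⟩).val = 7 ∧ (C.p ⟨1, by decide⟩).val = 6 := by
  rw [← C.simple_eq, ← C.simple_eq]
  decide +kernel

theorem p_zero : C.p ⟨0, by decide⟩ = (⟨7, by decide⟩ : Rt chevG2) := Fin.ext p_val.1

theorem p_one : C.p ⟨1, by decide⟩ = (⟨6, by decide⟩ : Rt chevG2) := Fin.ext p_val.2

/-- entrywise image -/
noncomputable def mapG {K : Type*} [Field K] (f : F →+* K) : ↥(chevG2.group F) →* ↥(chevG2.group K) :=
  ((Matrix.GeneralLinearGroup.map f).comp (chevG2.group F).subtype).codRestrict _ fun g =>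
    ChevFixed.map_group_le C f ⟨_, g.2, rfl⟩

theorem mapG_injective {K : Type*} [Field K] (f : F →+* K) : Function.Injective (mapG f) := by
  intro a b h
  exact Subtype.ext (ChevFixed.map_injective (f := f) f.injective (congrArg Subtype.val h))

theorem mapG_X {K : Type*} [Field K] (f : F →+* K) (r : Rt chevG2) (t : F) :
    mapG f (X r t) = X r (f t) := Subtype.ext (C.X_map F f r t)

theorem seven_map {K : Type*} [Field K] (f : F →+* K) (g : ↥(chevG2.group F)) :
    seven (mapG f g) = Matrix.GeneralLinearGroup.map f (seven g) := by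
  have h : (seven.comp (mapG f)).eqLocus ((Matrix.GeneralLinearGroup.map f).comp seven) = ⊤ := by
    refine group_ext fun r t => ?_
    show seven (mapG f (X r t)) = Matrix.GeneralLinearGroup.map f (seven (X r t))
    rw [mapG_X, seven_X, seven_X, xg_map]
  exact (h.symm ▸ Subgroup.mem_top g : g ∈ (seven.comp (mapG f)).eqLocus _)

end Cfsg.Agent.Lib.G2Seven
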