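import Cfsg.Agent.Lib.G2Seven.CoxTorus
import Cfsg.Agent.Lib.G2Seven.Torus
import Cfsg.Agent.Lib.ChevStructure.G2Torus.Main
import Cfsg.Agent.Lib.LinearOrders.Basic

/-!
Elements of the orders in the spectrum of `G₂(q)`.
-/

set_option autoImplicit false
set_option linter.unusedSectionVars false
set_option maxRecDepth 100000

namespace Cfsg.Agent.Lib.G2Seven.Lower

open Cfsg.Lie Cfsg.Agent.Lib.ChevStructure Matrix
open scoped MatrixGroups

variable {F : Type*} [Field F]

/-- `SL₃` in the group -/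
noncomputable def sl3 : SL(3, F) →* ↥(chevG2.group F) :=
  (G2Torus.rho (R := F)).codRestrict _ fun g => G2Torus.rho_mem g

theorem sl3_injective : Function.Injective (sl3 : SL(3, F) →* ↥(chevG2.group F)) :=
  fun _ _ h => G2Torus.rho_injective (congrArg Subtype.val h)

theorem rho_transvection {i j : Fin 3} (hij : i ≠ j) (c : F) :
    sl3 (Matrix.SpecialLinearGroup.transvection hij c) = X (G2Torus.lroot i j) c := by
  refine Subtype.ext (Units.ext ?_)
  refine (G2Torus.rho_val _).trans (Eq.trans ?_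
    ((G2Torus.rhoM_transvection hij c).trans (G2Torus.C.X_val F (G2Torus.lroot i j) c).symm))
  congr 1
  have h1 : (1 + Matrix.single i j c) * (1 - Matrix.single i j c) = (1 : Matrix (Fin 3) (Fin 3) F) := by
    simp [mul_sub, add_mul, Ne.symm hij]
  rw [Matrix.SpecialLinearGroup.coe_inv, ← Matrix.inv_eq_right_inv h1, Matrix.inv_def]
  have hd : (1 + Matrix.single i j c).det = 1 := Matrix.det_transvection_of_ne i j hij c
  simp [Matrix.SpecialLinearGroup.transvection_coe, hd]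

/-- a block matrix -/
def gm (a : Matrix (Fin 2) (Fin 2) F) : Matrix (Fin 3) (Fin 3) F :=
  !![a 0 0, a 0 1, 0; a 1 0, a 1 1, 0; 0, 0, (a.det)⁻¹]

theorem gm_mul (a b : Matrix (Fin 2) (Fin 2) F) : gm (a * b) = gm a * gm b := by
  simp only [gm, Matrix.det_mul, mul_inv]
  ext i j
  fin_cases i <;> fin_cases j <;> simp [Matrix.mul_apply, Fin.sum_univ_two, Fin.sum_univ_three, mul_comm]

theorem gm_one : gm (1 : Matrix (Fin 2) (Fin 2) F) = 1 := by
  ext i j
  fin_cases i <;> fin_cases j <;> simp [gm]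

theorem gm_det {a : Matrix (Fin 2) (Fin 2) F} (h : a.det ≠ 0) : (gm a).det = 1 := by
  rw [Matrix.det_fin_two] at h
  rw [Matrix.det_fin_three]
  simp [gm, Matrix.det_fin_two]
  linear_combination mul_inv_cancel₀ h

/-- `GL₂` in `SL₃` -/
def glEmb : GL (Fin 2) F →* SL(3, F) where
  toFun a := ⟨gm (a : Matrix (Fin 2) (Fin 2) F), gm_det (Matrix.GeneralLinearGroup.det a).ne_zero⟩
  map_one' := Subtype.ext gm_one
  map_mul' a b := Subtype.ext (gm_mul (a : Matrix (Fin 2) (Fin 2) F) b)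

theorem glEmb_val (a : GL (Fin 2) F) :
    (glEmb a : Matrix (Fin 3) (Fin 3) F) = gm (a : Matrix (Fin 2) (Fin 2) F) := rfl

theorem glEmb_injective : Function.Injective (glEmb : GL (Fin 2) F →* SL(3, F)) := by
  intro a b h
  have h' := congrArg (fun M : SL(3, F) => (M : Matrix (Fin 3) (Fin 3) F)) h
  refine Units.ext (Matrix.ext fun i j => ?_)
  have := congrFun (congrFun h' i.castSucc) j.castSucc
  fin_cases i <;> fin_cases j <;> simpa [glEmb_val, gm] using this

/-- a block matrix on the first and last coordinates -/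
def em (a : Matrix (Fin 2) (Fin 2) F) : Matrix (Fin 3) (Fin 3) F :=
  !![a 0 0, 0, a 0 1; 0, 1, 0; a 1 0, 0, a 1 1]

theorem em_mul (a b : Matrix (Fin 2) (Fin 2) F) : em (a * b) = em a * em b := by
  ext i j
  fin_cases i <;> fin_cases j <;> simp [em, Matrix.mul_apply, Fin.sum_univ_two, Fin.sum_univ_three]

theorem em_one : em (1 : Matrix (Fin 2) (Fin 2) F) = 1 := by
  ext i j
  fin_cases i <;> fin_cases j <;> simp [em]

theorem em_det {a : Matrix (Fin 2) (Fin 2) F} (h : a.det = 1) : (em a).det = 1 := by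
  rw [Matrix.det_fin_two] at h
  rw [Matrix.det_fin_three]
  simp [em]
  linear_combination h

/-- `SL₂` in `SL₃`, on the first and last coordinates -/
def emb02 : SL(2, F) →* SL(3, F) where
  toFun a := ⟨em (a : Matrix (Fin 2) (Fin 2) F), em_det a.2⟩
  map_one' := Subtype.ext em_one
  map_mul' a b := Subtype.ext (em_mul (a : Matrix (Fin 2) (Fin 2) F) b)

theorem emb02_val (a : SL(2, F)) :
    (emb02 a : Matrix (Fin 3) (Fin 3) F) = em (a : Matrix (Fin 2) (Fin 2) F) := rfl

theorem emb02_injective : Function.Injective (emb02 : SL(2, F) →* SL(3, F)) := by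
  intro a b h
  have h' := congrArg (fun M : SL(3, F) => (M : Matrix (Fin 3) (Fin 3) F)) h
  refine Subtype.ext (Matrix.ext fun i j => ?_)
  have := congrFun (congrFun h' (![0, 2] i)) (![0, 2] j)
  fin_cases i <;> fin_cases j <;> simpa [emb02_val, em] using this

theorem X_pow (r : Rt chevG2) (t : F) (n : ℕ) : (X r t : ↥(chevG2.group F)) ^ n = X r ((n : F) * t) := by
  induction n with
  | zero =>
    refine Subtype.ext ?_
    rw [pow_zero, Nat.cast_zero, zero_mul]
    exact (G2Torus.C.X_zero F r).symm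
  | succ n ih =>
    rw [pow_succ, ih]
    refine Subtype.ext ?_
    show G2Torus.C.X F r _ * G2Torus.C.X F r t = G2Torus.C.X F r _
    rw [G2Torus.C.X_add, Nat.cast_succ, add_mul, one_mul]

theorem orderOf_X (p : ℕ) [hp : Fact p.Prime] [CharP F p] (r : Rt chevG2) {t : F} (ht : t ≠ 0) :
    orderOf (X r t : ↥(chevG2.group F)) = p := by
  refine orderOf_eq_prime ?_ fun h => ht (G2Torus.C.X_eq_one (congrArg Subtype.val h))
  rw [X_pow, CharP.cast_eq_zero, zero_mul]
  exact Subtype.ext (G2Torus.C.X_zero F r)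

theorem comm_tab : ∀ r ∈ [(⟨0, by decide⟩ : Rt chevG2), ⟨11, by decide⟩],
    Xz (⟨7, by decide⟩ : Rt chevG2) * Xz r = Xz r * Xz ⟨7, by decide⟩ ∧
    Xz (⟨7, by decide⟩ : Rt chevG2) * Az r = Az r * Xz ⟨7, by decide⟩ ∧
    Az (⟨7, by decide⟩ : Rt chevG2) * Xz r = Xz r * Az ⟨7, by decide⟩ ∧
    Az (⟨7, by decide⟩ : Rt chevG2) * Az r = Az r * Az ⟨7, by decide⟩ := by decide +kernel

theorem commute_X {r : Rt chevG2} (hr : r ∈ [(⟨0, by decide⟩ : Rt chevG2), ⟨11, by decide⟩]) (t u : F) :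
    Commute (X (⟨7, by decide⟩ : Rt chevG2) t : ↥(chevG2.group F)) (X r u) := by
  obtain ⟨h1, h2, h3, h4⟩ := comm_tab r hr
  have c : ∀ {M N : M7 ℤ}, M * N = N * M → Commute (cst M : M7 F) (cst N) := fun {M N} h => by
    rw [Commute, SemiconjBy, ← map_mul, h, map_mul]
  refine seven_injective ?_
  rw [map_mul, map_mul, seven_X, seven_X]
  refine Units.ext ?_
  rw [Units.val_mul, Units.val_mul, xg_val, xg_val]
  exact (show Commute (xm (⟨7, by decide⟩ : Rt chevG2) t) (xm r u) from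
    ((Commute.one_left _).add_left
      (((Commute.one_right _).add_right ((c h1).smul_right u)).add_right ((c h2).smul_right _) |>.smul_left t)).add_left
      (((Commute.one_right _).add_right ((c h3).smul_right u)).add_right ((c h4).smul_right _) |>.smul_left _)).eq

theorem commute_emb02 (a : SL(2, F)) (t : F) :
    Commute (sl3 (emb02 a)) (X (⟨7, by decide⟩ : Rt chevG2) t) := by
  have h : (Subgroup.centralizer {(X (⟨7, by decide⟩ : Rt chevG2) t : ↥(chevG2.group F))}).comap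
      (sl3.comp emb02) = ⊤ := by
    refine Linear.sl_eq_top_of_transvection_mem _ fun i j hij c => ?_
    rw [Subgroup.mem_comap, Subgroup.mem_centralizer_singleton_iff, MonoidHom.comp_apply]
    have key : ∀ (k l : Fin 3) (hkl : k ≠ l), G2Torus.lroot k l ∈ [(⟨0, by decide⟩ : Rt chevG2), ⟨11, by decide⟩] →
        emb02 (Matrix.SpecialLinearGroup.transvection hij c) = Matrix.SpecialLinearGroup.transvection hkl c →
        sl3 (emb02 (Matrix.SpecialLinearGroup.transvection hij c)) * X (⟨7, by decide⟩ : Rt chevG2) t =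
          X (⟨7, by decide⟩ : Rt chevG2) t * sl3 (emb02 (Matrix.SpecialLinearGroup.transvection hij c)) := by
      intro k l hkl hm e
      rw [e, rho_transvection]
      exact (commute_X hm t c).eq.symm
    fin_cases i <;> fin_cases j
    · exact absurd rfl hij
    · exact key 0 2 (by decide) (by decide +kernel) (Subtype.ext (by
        ext a b
        fin_cases a <;> fin_cases b <;>
          simp [emb02_val, em, Matrix.SpecialLinearGroup.transvection_coe, Matrix.single]))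
    · exact key 2 0 (by decide) (by decide +kernel) (Subtype.ext (by
        ext a b
        fin_cases a <;> fin_cases b <;>
          simp [emb02_val, em, Matrix.SpecialLinearGroup.transvection_coe, Matrix.single]))
    · exact absurd rfl hij
  have := (h.symm ▸ Subgroup.mem_top a : a ∈ (Subgroup.centralizer
    {(X (⟨7, by decide⟩ : Rt chevG2) t : ↥(chevG2.group F))}).comap (sl3.comp emb02))
  exact Subgroup.mem_centralizer_singleton_iff.1 this

variable [Fintype F]

theorem exists_sq_sub_one {q : ℕ} (hF : Fintype.card F = q) :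
    ∃ g : ↥(chevG2.group F), orderOf g = q ^ 2 - 1 := by
  obtain ⟨a, ha⟩ := LinearOrders.exists_orderOf_eq_pow_sub_one (F := F) (d := 2) (n := 2) (by norm_num) le_rfl
  refine ⟨sl3 (glEmb a), ?_⟩
  rw [orderOf_injective _ sl3_injective, orderOf_injective _ glEmb_injective, ha, hF]

theorem exists_p_mul_pred {q p : ℕ} [hp : Fact p.Prime] [CharP F p] (hF : Fintype.card F = q) (hpq : p ∣ q) :
    ∃ g : ↥(chevG2.group F), orderOf g = p * (q - 1) := by
  obtain ⟨t, ht⟩ := IsCyclic.exists_ofOrder_eq_natCard (α := Fˣ)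
  rw [Nat.card_units, Nat.card_eq_fintype_card, hF] at ht
  let s : GL (Fin 2) F := Units.map (Matrix.scalar (Fin 2)).toMonoidHom t
  let u : GL (Fin 2) F := ((Matrix.SpecialLinearGroup.transvection (show (0 : Fin 2) ≠ 1 by decide) (1 : F)) :
    GL (Fin 2) F)
  have hs : orderOf s = q - 1 := by
    rw [show s = Units.map (Matrix.scalar (Fin 2)).toMonoidHom t from rfl,
      orderOf_injective _ (Units.map_injective (fun x y h => Matrix.scalar_inj.1 h)), ht]
  have hpow : ∀ n : ℕ, ((u ^ n : GL (Fin 2) F) : Matrix (Fin 2) (Fin 2) F) = !![1, (n : F); 0, 1] := by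
    intro n
    induction n with
    | zero => simp [Matrix.one_fin_two]
    | succ n ih =>
      rw [pow_succ, Units.val_mul, ih]
      ext i j
      fin_cases i <;> fin_cases j <;>
        simp [u, Matrix.mul_apply, Fin.sum_univ_two, Matrix.SpecialLinearGroup.transvection_coe, Matrix.single,
          add_comm]
  have hu : orderOf u = p := by
    refine orderOf_eq_prime (Units.ext ?_) fun h => ?_
    · rw [hpow, CharP.cast_eq_zero, Units.val_one, Matrix.one_fin_two]
    · have := congrFun (congrFun (hpow 1) 0) 1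
      rw [pow_one, h] at this
      simp at this
  have hc : Commute u s := Units.ext (by
    rw [Units.val_mul, Units.val_mul]
    exact ((Matrix.scalar_commute (t : F) (fun _ => mul_comm _ _) (u : Matrix (Fin 2) (Fin 2) F)).eq).symm)
  refine ⟨sl3 (glEmb (u * s)), ?_⟩
  rw [orderOf_injective _ sl3_injective, orderOf_injective _ glEmb_injective, hc.orderOf_mul_eq_mul_orderOf_of_coprime,
    hu, hs]
  rw [hu, hs, Nat.Prime.coprime_iff_not_dvd hp.out]
  have := hF ▸ Fintype.one_lt_card (α := F)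
  intro h
  have h1 := Nat.dvd_sub hpq h
  rw [show q - (q - 1) = 1 by omega, Nat.dvd_one] at h1
  exact hp.out.one_lt.ne' h1

theorem exists_p_mul_succ {q p : ℕ} [hp : Fact p.Prime] [CharP F p] (hF : Fintype.card F = q) (hpq : p ∣ q) :
    ∃ g : ↥(chevG2.group F), orderOf g = p * (q + 1) := by
  have hq2 : 2 ≤ q := hF ▸ Fintype.one_lt_card
  obtain ⟨a, ha⟩ := LinearOrders.exists_orderOf_eq_pow_sub_one (F := F) (d := 2) (n := 2) (by norm_num) le_rfl
  rw [hF] at ha
  set b := a ^ (q - 1) with hb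
  have hbo : orderOf b = q + 1 := by
    have e : q ^ 2 - 1 = (q - 1) * (q + 1) := by
      have := Nat.sq_sub_sq q 1
      rw [one_pow] at this
      rw [this, mul_comm]
    rw [hb, orderOf_pow' a (by omega), ha, e, Nat.gcd_mul_right_left, Nat.mul_div_cancel_left _ (by omega)]
  have hdet : (b : Matrix (Fin 2) (Fin 2) F).det = 1 := by
    rw [hb, Units.val_pow_eq_pow_val, Matrix.det_pow, ← hF]
    exact FiniteField.pow_card_sub_one_eq_one _ (Matrix.GeneralLinearGroup.det a).ne_zero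
  let A : SL(2, F) := ⟨(b : Matrix (Fin 2) (Fin 2) F), hdet⟩
  have hA : orderOf A = q + 1 := by
    have e : (A : GL (Fin 2) F) = b := Units.ext rfl
    rw [← hbo, ← e]
    exact (orderOf_injective Matrix.SpecialLinearGroup.toGL Matrix.SpecialLinearGroup.toGL_injective A).symm
  refine ⟨X (⟨7, by decide⟩ : Rt chevG2) (1 : F) * sl3 (emb02 A), ?_⟩
  rw [(commute_emb02 A 1).symm.orderOf_mul_eq_mul_orderOf_of_coprime,
    orderOf_injective _ sl3_injective, orderOf_injective _ emb02_injective, orderOf_X p _ one_ne_zero, hA]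
  rw [orderOf_injective _ sl3_injective, orderOf_injective _ emb02_injective, orderOf_X p _ one_ne_zero, hA,
    Nat.Prime.coprime_iff_not_dvd hp.out]
  intro h
  exact hp.out.one_lt.ne' (Nat.dvd_one.1 (by simpa using Nat.dvd_sub h hpq))

theorem exists_cyclo {q : ℕ} (hF : Fintype.card F = q) (hq : 3 ≤ q) :
    (∃ g : ↥(chevG2.group F), orderOf g = q ^ 2 + q + 1) ∧
      ∃ g : ↥(chevG2.group F), orderOf g = q ^ 2 - q + 1 := by
  obtain ⟨H, h1, h2, -⟩ := G2Torus.exists_torus q hF hq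
  obtain ⟨H', h1', h2'⟩ := CoxTorus.exists_torus q hF hq
  constructor
  · obtain ⟨g, hg⟩ := IsCyclic.exists_ofOrder_eq_natCard (α := ↥H)
    exact ⟨(g : ↥(chevG2.group F)), by rw [Subgroup.orderOf_coe, hg, h2]⟩
  · obtain ⟨g, hg⟩ := IsCyclic.exists_ofOrder_eq_natCard (α := ↥H')
    exact ⟨(g : ↥(chevG2.group F)), by rw [Subgroup.orderOf_coe, hg, h2']⟩

/-- the nilpotent part of a regular unipotent element -/
def Nz : M7 ℤ := (1 + Xz ⟨7, by decide⟩ + Az ⟨7, by decide⟩) * (1 + Xz ⟨6, by decide⟩ + Az ⟨6, by decide⟩) - 1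

/-- literal tables -/
def Nz2 : M7 ℤ := Nz * Nz

theorem Nz_tab : (Nz ^ 3) 0 6 = 1 ∧ (Nz ^ 4) 1 6 = 3 ∧ (Nz ^ 5) 0 5 = 2 ∧ Nz ^ 7 = 0 := by decide +kernel

theorem exists_unipotent {p : ℕ} [hp : Fact p.Prime] [CharP F p] :
    ((p = 3 ∨ p = 5) → ∃ g : ↥(chevG2.group F), orderOf g = p ^ 2) ∧
      (p = 2 → ∃ g : ↥(chevG2.group F), orderOf g = 8) := by
  set g : ↥(chevG2.group F) := X ⟨7, by decide⟩ 1 * X ⟨6, by decide⟩ 1 with hg
  have hU : ((seven g : GL (Fin 7) F) : M7 F) = cst (Nz + 1) := by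
    rw [hg, map_mul, seven_X, seven_X, Units.val_mul, xg_val, xg_val, Nz, sub_add_cancel]
    simp [xm]
  have hpw : ∀ k, ((seven (g ^ (p ^ k)) : GL (Fin 7) F) : M7 F) = 1 + cst (Nz ^ (p ^ k)) := by
    intro k
    rw [map_pow, Units.val_pow_eq_pow_val, hU, map_add, map_one, add_comm,
      add_pow_char_pow_of_commute _ _ (Commute.one_left _), one_pow, map_pow]
  have hone : ∀ k, g ^ (p ^ k) = 1 ↔ (cst (Nz ^ (p ^ k)) : M7 F) = 0 := by
    intro k
    constructor
    · intro h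
      have := hpw k
      rw [h, map_one, Units.val_one] at this
      simpa using this.symm
    · intro h
      refine seven_injective (Units.ext ?_)
      rw [hpw, h, add_zero, map_one, Units.val_one]
  have hzero : ∀ k, 7 ≤ p ^ k → g ^ (p ^ k) = 1 := fun k hk => by
    rw [hone]
    obtain ⟨d, hd⟩ := Nat.le.dest hk
    rw [← hd, pow_add, Nz_tab.2.2.2, zero_mul, map_zero]
  have hne : ∀ (k : ℕ) (i j : Fin 7), (((Nz ^ (p ^ k)) i j : ℤ) : F) ≠ 0 → g ^ (p ^ k) ≠ 1 := fun k i j h h1 =>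
    h (by have := congrFun (congrFun ((hone k).1 h1) i) j; rwa [cst_apply] at this)
  constructor
  · rintro (rfl | rfl)
    · exact ⟨g, orderOf_eq_prime_pow (n := 1) (hne 1 0 6 (by rw [pow_one, Nz_tab.1]; simp)) (hzero 2 (by norm_num))⟩
    · refine ⟨g, orderOf_eq_prime_pow (n := 1) (hne 1 0 5 ?_) (hzero 2 (by norm_num))⟩
      rw [pow_one, Nz_tab.2.2.1]
      intro h
      have := (CharP.intCast_eq_zero_iff F 5 2).1 h
      norm_num at this
  · rintro rfl
    refine ⟨g, orderOf_eq_prime_pow (p := 2) (n := 2) (hne 2 1 6 ?_) (hzero 3 (by norm_num))⟩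
    rw [show 2 ^ 2 = 4 from rfl, Nz_tab.2.1]
    intro h
    have := (CharP.intCast_eq_zero_iff F 2 3).1 h
    norm_num at this

section Twelve

/-- the matrix of an element of order twelve of `G₂(2)` -/
def W : M7 (ZMod 2) := !![1, 0, 0, 0, 0, 0, 1; 0, 1, 0, 0, 1, 0, 0; 0, 0, 1, 0, 0, 1, 0; 1, 0, 0, 1, 0, 0, 0;
  0, 1, 0, 0, 0, 0, 0; 1, 0, 1, 0, 0, 0, 1; 1, 1, 0, 0, 1, 0, 0]

/-- its square -/
def W2 : M7 (ZMod 2) := !![0, 1, 0, 0, 1, 0, 1; 0, 0, 0, 0, 1, 0, 0; 1, 0, 0, 0, 0, 1, 1; 0, 0, 0, 1, 0, 0, 1;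
  0, 1, 0, 0, 1, 0, 0; 0, 1, 1, 0, 1, 1, 1; 1, 0, 0, 0, 1, 0, 1]

/-- its fourth power -/
def W4 : M7 (ZMod 2) := !![1, 1, 0, 0, 1, 0, 1; 0, 1, 0, 0, 1, 0, 0; 1, 0, 1, 0, 1, 1, 1; 1, 0, 0, 1, 1, 0, 0;
  0, 1, 0, 0, 0, 0, 0; 0, 0, 1, 0, 0, 0, 1; 1, 0, 0, 0, 1, 0, 0]

/-- its sixth power -/
def W6 : M7 (ZMod 2) := !![1, 0, 0, 0, 0, 0, 0; 0, 1, 0, 0, 0, 0, 0; 0, 1, 1, 0, 0, 0, 0; 0, 0, 0, 1, 0, 0, 0;
  0, 0, 0, 0, 1, 0, 0; 0, 0, 0, 0, 1, 1, 0; 0, 0, 0, 0, 0, 0, 1]

theorem W_tab : W * W = W2 ∧ W2 * W2 = W4 ∧ W4 * W2 = W6 ∧ W6 * W6 = 1 ∧ W4 ≠ 1 ∧ W6 ≠ 1 := by decide +kernel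

theorem W_word : xm (⟨0, by decide⟩ : Rt chevG2) (1 : ZMod 2) * xm ⟨2, by decide⟩ 1 * xm ⟨9, by decide⟩ 1 = W := by
  decide +kernel

theorem exists_twelve [CharP F 2] : ∃ g : ↥(chevG2.group F), orderOf g = 12 := by
  set g : ↥(chevG2.group (ZMod 2)) := X ⟨0, by decide⟩ 1 * X ⟨2, by decide⟩ 1 * X ⟨9, by decide⟩ 1 with hg
  have hW : ((seven g : GL (Fin 7) (ZMod 2)) : M7 (ZMod 2)) = W := by
    rw [hg, map_mul, map_mul, seven_X, seven_X, seven_X, Units.val_mul, Units.val_mul, xg_val, xg_val, xg_val,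
      W_word]
  obtain ⟨t2, t4, t6, t12, n4, n6⟩ := W_tab
  have e4 : W ^ 4 = W4 := by rw [show 4 = 2 * 2 from rfl, pow_mul, pow_two, pow_two, t2, t4]
  have e6 : W ^ 6 = W6 := by rw [show 6 = 4 + 2 from rfl, pow_add, e4, pow_two, t2, t6]
  have e12 : W ^ 12 = 1 := by rw [show 12 = 6 + 6 from rfl, pow_add, e6, t12]
  have hv : ∀ n, g ^ n = 1 ↔ W ^ n = 1 := fun n => by
    rw [← seven_injective.eq_iff, map_pow, map_one, Units.ext_iff, Units.val_pow_eq_pow_val, hW, Units.val_one]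
  refine ⟨mapG (ZMod.castHom dvd_rfl F) g, ?_⟩
  rw [orderOf_injective _ (mapG_injective _)]
  refine orderOf_eq_of_pow_and_pow_div_prime (by norm_num) ((hv _).2 e12) fun r hr hd h => ?_
  rcases (show r = 2 ∨ r = 3 by
    have := Nat.le_of_dvd (by norm_num) hd
    interval_cases r <;> first | omega | (norm_num at hr)) with rfl | rfl
  · exact n6 (e6.symm.trans ((hv _).1 h))
  · exact n4 (e4.symm.trans ((hv _).1 h))

end Twelve

end Cfsg.Agent.Lib.G2Seven.Lower
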