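import Cfsg.Agent.Lib.G2Seven.Roots

/-!
The case of seven distinct eigenvalues, and the case distinction.
-/

set_option autoImplicit false
set_option maxRecDepth 100000

namespace Cfsg.Agent.Lib.G2Seven.Roots

/-- the exponent vectors of the six nontrivial values -/
def E6 : List (ℤ × ℤ) := [(1, 1), (1, 0), (0, 1), (0, -1), (-1, 0), (-1, -1)]

/-- the exponent vectors of all seven -/
def P7 : List (ℤ × ℤ) := (0, 0) :: E6

/-- the linear map on exponents with the given images of the basis -/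
def app (a b v : ℤ × ℤ) : ℤ × ℤ := (v.1 * a.1 + v.2 * b.1, v.1 * a.2 + v.2 * b.2)

/-- a quadratic equation of the linear map -/
def quad (a b : ℤ × ℤ) (u w : ℤ) : Bool :=
  [((1 : ℤ), (0 : ℤ)), (0, 1)].all fun v =>
    decide ((app a b (app a b v)).1 + u * (app a b v).1 + w * v.1 = 0 ∧
      (app a b (app a b v)).2 + u * (app a b v).2 + w * v.2 = 0)

theorem table : ∀ a ∈ E6, ∀ b ∈ E6, ∀ e ∈ E6, [a, b, e, -a, -b, -e].Nodup →
    quad a b 0 (-1) = true ∨ quad a b 1 1 = true ∨ quad a b (-1) 1 = true ∨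
    ∃ c₁ ∈ [(-1 : ℤ), 0, 1], ∃ c₂ ∈ [(-1 : ℤ), 0, 1], ∃ P ∈ P7, ∃ P' ∈ P7, P ≠ P' ∧
      (c₁ * (-a.1 - b.1 - e.1) + c₂ * (app a b (-a - b - e)).1 = P.1 - P'.1 ∧
       c₁ * (-a.2 - b.2 - e.2) + c₂ * (app a b (-a - b - e)).2 = P.2 - P'.2) := by decide +kernel

variable {K : Type*} [Field K] [DecidableEq K] {q : ℕ} (hq : Function.Injective fun a : Kˣ => a ^ q)

/-- the value of an exponent vector -/
def ev (x y : Kˣ) (v : ℤ × ℤ) : Kˣ := x ^ v.1 * y ^ v.2

omit [DecidableEq K] in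
theorem ev_add (x y : Kˣ) (v w : ℤ × ℤ) : ev x y (v + w) = ev x y v * ev x y w := by
  simp [ev, zpow_add, mul_mul_mul_comm]

omit [DecidableEq K] in
theorem ev_neg (x y : Kˣ) (v : ℤ × ℤ) : ev x y (-v) = (ev x y v)⁻¹ := by
  simp [ev, _root_.mul_inv_rev, mul_comm]

omit [DecidableEq K] in
theorem ev_smul (x y : Kˣ) (c : ℤ) (v : ℤ × ℤ) : ev x y (c * v.1, c * v.2) = ev x y v ^ c := by
  simp [ev, mul_zpow, ← zpow_mul, mul_comm c]

omit [DecidableEq K] in
theorem ev_sub (x y : Kˣ) (v w : ℤ × ℤ) : ev x y (v.1 - w.1, v.2 - w.2) = ev x y v / ev x y w := by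
  rw [show ((v.1 - w.1, v.2 - w.2) : ℤ × ℤ) = v + -w from Prod.ext (sub_eq_add_neg _ _) (sub_eq_add_neg _ _),
    ev_add, ev_neg, div_eq_mul_inv]

theorem rv_ev (x y : Kˣ) : ∀ i, rv x y i = ev x y ([(1, 1), (1, 0), (0, 1), (0, 0), (0, -1), (-1, 0), (-1, -1)].getD i.val (0, 0)) := by
  intro i; fin_cases i <;> simp [rv, ev, mul_comm]

include hq in
theorem kind_regular (hq1 : 1 ≤ q) (x y : Kˣ) (hd : Function.Injective (rv x y)) (hS : Stable q (ms x y)) :
    Kind q (ms x y) := by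
  have hE : ∀ v ∈ E6, ev x y v ∈ ms x y ∧ ev x y v ≠ 1 := by
    intro v hv
    have h1 : ∀ i : Fin 7, i ≠ 3 → rv x y i ≠ 1 := fun i hi h =>
      hi (hd (h.trans (show (1 : Kˣ) = rv x y 3 from rfl)))
    fin_cases hv
    · exact ⟨mem_ms.2 ⟨0, rv_ev x y 0⟩, by rw [← show rv x y 0 = ev x y (1, 1) from rv_ev x y 0]; exact h1 0 (by decide)⟩
    · exact ⟨mem_ms.2 ⟨1, rv_ev x y 1⟩, by rw [← show rv x y 1 = ev x y (1, 0) from rv_ev x y 1]; exact h1 1 (by decide)⟩
    · exact ⟨mem_ms.2 ⟨2, rv_ev x y 2⟩, by rw [← show rv x y 2 = ev x y (0, 1) from rv_ev x y 2]; exact h1 2 (by decide)⟩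
    · exact ⟨mem_ms.2 ⟨4, rv_ev x y 4⟩, by rw [← show rv x y 4 = ev x y (0, -1) from rv_ev x y 4]; exact h1 4 (by decide)⟩
    · exact ⟨mem_ms.2 ⟨5, rv_ev x y 5⟩, by rw [← show rv x y 5 = ev x y (-1, 0) from rv_ev x y 5]; exact h1 5 (by decide)⟩
    · exact ⟨mem_ms.2 ⟨6, rv_ev x y 6⟩, by rw [← show rv x y 6 = ev x y (-1, -1) from rv_ev x y 6]; exact h1 6 (by decide)⟩
  have himg : ∀ v ∈ E6, ∃ w ∈ E6, ev x y w = ev x y v ^ q := by
    intro v hv
    obtain ⟨i, hi⟩ := mem_ms.1 (pow_mem hq hS (hE v hv).1)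
    have hne : i ≠ 3 := fun h => pow_ne_one' hq (hE v hv).2 (by rw [← hi, h]; rfl)
    refine ⟨[(1, 1), (1, 0), (0, 1), (0, 0), (0, -1), (-1, 0), (-1, -1)].getD i.val (0, 0), ?_, by rw [← rv_ev, hi]⟩
    fin_cases i <;> simp_all [E6]
  obtain ⟨a, ha, hax⟩ := himg (1, 0) (by simp [E6])
  obtain ⟨b, hb, hby⟩ := himg (0, 1) (by simp [E6])
  obtain ⟨e, he, hez⟩ := himg (-1, -1) (by simp [E6])
  have hnd : [a, b, e, -a, -b, -e].Nodup := by
    refine List.Nodup.of_map (ev x y) ?_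
    simp only [List.map_cons, List.map_nil, ev_neg, hax, hby, hez, ← inv_pow]
    rw [← ev_neg, ← ev_neg, ← ev_neg]
    have hl : ([(1, 0), (0, 1), (-1, -1), -(1, 0), -(0, 1), -(-1, -1)] : List (ℤ × ℤ)).map
        (fun v => ev x y v ^ q) = [ev x y (1, 0) ^ q, ev x y (0, 1) ^ q, ev x y (-1, -1) ^ q,
          ev x y (-(1, 0)) ^ q, ev x y (-(0, 1)) ^ q, ev x y (-(-1, -1)) ^ q] := rfl
    rw [← hl, show (fun v => ev x y v ^ q) = (fun c : Kˣ => c ^ q) ∘ ev x y from rfl, ← List.map_map]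
    refine List.Nodup.map hq ?_
    have e1 : ([(1, 0), (0, 1), (-1, -1), -(1, 0), -(0, 1), -(-1, -1)] : List (ℤ × ℤ)).map (ev x y) =
        [1, 2, 6, 5, 4, 0].map (rv x y) := by
      simp [rv, ev, mul_comm]
    rw [e1]
    exact List.Nodup.map hd (by decide)
  have hax' : ev x y a = x ^ q := by rw [hax]; simp [ev]
  have hby' : ev x y b = y ^ q := by rw [hby]; simp [ev]
  have happ : ∀ v, ev x y v ^ q = ev x y (app a b v) := by
    intro v
    rw [show app a b v = (v.1 * a.1, v.1 * a.2) + (v.2 * b.1, v.2 * b.2) from rfl, ev_add, ev_smul, ev_smul,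
      hax', hby', ev, mul_pow, ← zpow_natCast (x ^ v.1) q, ← zpow_natCast (y ^ v.2) q, ← zpow_mul, ← zpow_mul,
      ← zpow_natCast x q, ← zpow_natCast y q, ← zpow_mul, ← zpow_mul, mul_comm v.1, mul_comm v.2]
  have hquad : ∀ u w : ℤ, quad a b u w = true → ∀ v ∈ [((1 : ℤ), (0 : ℤ)), (0, 1)],
      ev x y v ^ (((q : ℤ) ^ 2 + u * q + w)) = 1 := by
    intro u w h v hv
    have h' := of_decide_eq_true (List.all_eq_true.1 h v hv)
    have e2 : app a b (app a b v) + ((u * (app a b v).1, u * (app a b v).2) + (w * v.1, w * v.2)) = (0, 0) :=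
      Prod.ext (by simpa [← add_assoc] using h'.1) (by simpa [← add_assoc] using h'.2)
    have e3 := congrArg (ev x y) e2
    rw [ev_add, ev_add, ev_smul, ev_smul, ← happ, ← happ] at e3
    rw [zpow_add, zpow_add, sq, zpow_mul, zpow_natCast, zpow_natCast, mul_comm u, zpow_mul, zpow_natCast,
      mul_assoc, e3]
    simp [ev]
  have hall : ∀ N : ℕ, x ^ N = 1 → y ^ N = 1 → ∀ c ∈ ms x y, c ^ N = 1 := by
    intro N hx hy c hc
    obtain ⟨i, rfl⟩ := mem_ms.1 hc
    fin_cases i <;> simp [rv, mul_pow, hx, hy]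
  have hcount : ∀ c ∈ ms x y, (ms x y).count c ≤ 1 := fun c _ =>
    Multiset.nodup_iff_count_le_one.1 (Finset.univ.nodup.map hd) c
  have hqq : 1 ≤ q ^ 2 := Nat.one_le_pow _ _ hq1
  have hqle : q ≤ q ^ 2 := Nat.le_self_pow (by norm_num) q
  have hfin : ∀ (N : ℕ) (u w : ℤ), (N : ℤ) = (q : ℤ) ^ 2 + u * q + w → quad a b u w = true →
      ∀ c ∈ ms x y, c ^ N = 1 := by
    intro N u w hN h
    refine hall N ?_ ?_
    · have := hquad u w h (1, 0) (by simp)
      rw [← hN] at this; simpa [ev] using this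
    · have := hquad u w h (0, 1) (by simp)
      rw [← hN] at this; simpa [ev] using this
  rcases table a ha b hb e he hnd with h | h | h | ⟨c₁, -, c₂, -, P, hP, P', hP', hne, h1, h2⟩
  · exact .regular (q ^ 2 - 1) (Or.inl rfl) (hfin _ 0 (-1) (by push_cast [hqq]; ring) h) hcount
  · exact .regular (q ^ 2 + q + 1) (Or.inr (Or.inl rfl)) (hfin _ 1 1 (by push_cast; ring) h) hcount
  · exact .regular (q ^ 2 - q + 1) (Or.inr (Or.inr rfl)) (hfin _ (-1) 1 (by push_cast [hqle]; ring) h) hcount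
  · exfalso
    have hr : ev x y (-a - b - e) = 1 := by
      rw [sub_eq_add_neg, sub_eq_add_neg, ev_add, ev_add, ev_neg, ev_neg, ev_neg, hax', hby', hez]
      simp [ev, mul_pow, inv_pow]
    have hMr : ev x y (app a b (-a - b - e)) = 1 := by rw [← happ, hr, one_pow]
    have hv : ev x y P / ev x y P' = 1 := by
      rw [← ev_sub, show ((P.1 - P'.1, P.2 - P'.2) : ℤ × ℤ) =
        (c₁ * (-a - b - e).1, c₁ * (-a - b - e).2) + (c₂ * (app a b (-a - b - e)).1, c₂ * (app a b (-a - b - e)).2)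
        from Prod.ext (by simpa using h1.symm) (by simpa using h2.symm), ev_add, ev_smul, ev_smul, hr, hMr]
      simp
    have hget : ∀ Q ∈ P7, ∃ i : Fin 7, rv x y i = ev x y Q ∧
        [(1, 1), (1, 0), (0, 1), (0, 0), (0, -1), (-1, 0), (-1, -1)].getD i.val (0, 0) = Q := by
      intro Q hQ
      have : ∀ Q ∈ P7, ∃ i : Fin 7,
          ([(1, 1), (1, 0), (0, 1), (0, 0), (0, -1), (-1, 0), (-1, -1)] : List (ℤ × ℤ)).getD i.val (0, 0) = Q := by
        decide +kernel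
      obtain ⟨i, hi⟩ := this Q hQ
      exact ⟨i, by rw [rv_ev, hi], hi⟩
    obtain ⟨i, hi, hi'⟩ := hget P hP
    obtain ⟨j, hj, hj'⟩ := hget P' hP'
    have hij : i = j := hd (by rw [hi, hj]; exact div_eq_one.1 hv)
    exact hne (by rw [← hi', ← hj', hij])

include hq in
theorem kind (hq1 : 1 ≤ q) (x y : Kˣ) (hS : Stable q (ms x y)) : Kind q (ms x y) := by
  by_cases hx : x = 1
  · have e : ms x y = {1} + {1} + {1} + {y} + {y} + {y⁻¹} + {y⁻¹} := by
      rw [ms_eq, hx]; simp only [one_mul, inv_one]; abel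
    rw [e] at hS ⊢; exact kind_one hq hq1 y hS
  by_cases hy : y = 1
  · have e : ms x y = {1} + {1} + {1} + {x} + {x} + {x⁻¹} + {x⁻¹} := by
      rw [ms_eq, hy]; simp only [mul_one, inv_one]; abel
    rw [e] at hS ⊢; exact kind_one hq hq1 x hS
  by_cases hxy : x * y = 1
  · have e : ms x y = {1} + {1} + {1} + {x} + {x} + {x⁻¹} + {x⁻¹} := by
      rw [ms_eq, hxy, show y = x⁻¹ from eq_inv_of_mul_eq_one_right hxy, inv_inv, inv_one]; abel
    rw [e] at hS ⊢; exact kind_one hq hq1 x hS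
  by_cases h1 : x = y
  · subst h1
    have e : ms x x = {1} + {x} + {x} + {x⁻¹} + {x⁻¹} + {x ^ 2} + {(x ^ 2)⁻¹} := by
      rw [ms_eq, pow_two]; abel
    rw [e] at hS ⊢; exact kind_two hq hq1 x hx (by rwa [pow_two]) hS
  by_cases h2 : x ^ 2 * y = 1
  · have hy' : y = (x ^ 2)⁻¹ := eq_inv_of_mul_eq_one_right h2
    have hxy' : x * y = x⁻¹ := by
      refine eq_inv_of_mul_eq_one_right ?_
      rw [← mul_assoc, ← pow_two, h2]
    have e : ms x y = {1} + {x} + {x} + {x⁻¹} + {x⁻¹} + {x ^ 2} + {(x ^ 2)⁻¹} := by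
      rw [ms_eq, hxy', hy', inv_inv, inv_inv]; abel
    have hx2 : x ^ 2 ≠ 1 := fun h => hy (by rw [hy', h, inv_one])
    rw [e] at hS ⊢; exact kind_two hq hq1 x hx hx2 hS
  by_cases h3 : y ^ 2 * x = 1
  · have hx' : x = (y ^ 2)⁻¹ := eq_inv_of_mul_eq_one_right h3
    have hxy' : x * y = y⁻¹ := by
      refine eq_inv_of_mul_eq_one_right ?_
      rw [mul_comm x y, ← mul_assoc, ← pow_two, h3]
    have e : ms x y = {1} + {y} + {y} + {y⁻¹} + {y⁻¹} + {y ^ 2} + {(y ^ 2)⁻¹} := by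
      rw [ms_eq, hxy', hx', inv_inv, inv_inv]; abel
    have hy2 : y ^ 2 ≠ 1 := fun h => hx (by rw [hx', h, inv_one])
    rw [e] at hS ⊢; exact kind_two hq hq1 y hy hy2 hS
  have hunits : ∀ a : Kˣ, a ^ 2 = 1 → a ≠ 1 → ∀ b : Kˣ, b ^ 2 = 1 → b = 1 ∨ b = a := by
    intro a ha ha1 b hb
    have h1 : ((a : K) - 1) * ((a : K) + 1) = 0 := by
      have : (a : K) ^ 2 = 1 := by rw [← Units.val_pow_eq_pow_val, ha, Units.val_one]
      linear_combination this
    have h2 : ((b : K) - 1) * ((b : K) + 1) = 0 := by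
      have : (b : K) ^ 2 = 1 := by rw [← Units.val_pow_eq_pow_val, hb, Units.val_one]
      linear_combination this
    rcases mul_eq_zero.1 h1 with e | e
    · exact absurd (Units.ext (by rw [Units.val_one]; linear_combination e)) ha1
    rcases mul_eq_zero.1 h2 with e' | e'
    · exact Or.inl (Units.ext (by rw [Units.val_one]; linear_combination e'))
    · exact Or.inr (Units.ext (by linear_combination e' - e))
  by_cases hx2 : x ^ 2 = 1
  · have hxi : x⁻¹ = x := inv_eq_of_mul_eq_one_right (by rw [← pow_two, hx2])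
    have e : ms x y = {x} + {x} + {1} + {y} + {y⁻¹} + {x * y} + {x * y⁻¹} := by
      rw [ms_eq, _root_.mul_inv_rev, hxi, mul_comm y⁻¹ x]; abel
    rw [e] at hS ⊢
    refine kind_signed hq hq1 x y hx hx2 hy (Ne.symm h1) (fun h => ?_) (fun h => ?_) hS
    · rcases hunits x hx2 hx y h with h' | h'
      · exact hy h'
      · exact h1 h'.symm
    · exact h3 (by rw [h, ← pow_two, hx2])
  by_cases hy2 : y ^ 2 = 1
  · have hyi : y⁻¹ = y := inv_eq_of_mul_eq_one_right (by rw [← pow_two, hy2])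
    have e : ms x y = {y} + {y} + {1} + {x} + {x⁻¹} + {y * x} + {y * x⁻¹} := by
      rw [ms_eq, _root_.mul_inv_rev, hyi, mul_comm x y]; abel
    rw [e] at hS ⊢
    refine kind_signed hq hq1 y x hy hy2 hx h1 hx2 (fun h => ?_) hS
    exact h2 (by rw [h, ← pow_two, hy2])
  by_cases hz2 : (x * y) ^ 2 = 1
  · have hzi : (x * y)⁻¹ = x * y := inv_eq_of_mul_eq_one_right (by rw [← pow_two, hz2])
    have ey : x * y * x⁻¹ = y := by rw [mul_comm x y, mul_assoc, mul_inv_cancel, mul_one]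
    have eyi : x * y * x = y⁻¹ := by
      refine eq_inv_of_mul_eq_one_right ?_
      rw [show y * (x * y * x) = (x * y) ^ 2 by rw [pow_two]; ac_rfl, hz2]
    have e : ms x y = {x * y} + {x * y} + {1} + {x} + {x⁻¹} + {x * y * x} + {x * y * x⁻¹} := by
      rw [ms_eq, hzi, ey, eyi]; abel
    rw [e] at hS ⊢
    refine kind_signed hq hq1 (x * y) x hxy hz2 hx (fun h => hy ?_) hx2 (fun h => h1 ?_) hS
    · exact mul_left_cancel (a := x) (by rw [← h, mul_one])
    · rw [pow_two] at h; exact mul_left_cancel h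
  refine kind_regular hq hq1 x y ?_ hS
  have key : ∀ v ∈ [((1 : ℤ), (0 : ℤ)), (0, 1), (1, 1), (1, -1), (2, 1), (1, 2), (2, 0), (0, 2), (2, 2)],
      ev x y v ≠ 1 := by
    intro v hv
    fin_cases hv <;> simp only [ev, zpow_one, zpow_zero, mul_one, one_mul, zpow_neg]
    · exact hx
    · exact hy
    · exact hxy
    · exact fun h => h1 (mul_inv_eq_one.1 h)
    · exact h2
    · exact fun h => h3 (by rw [mul_comm]; exact h)
    · exact hx2
    · exact hy2
    · exact fun h => hz2 (by rw [mul_pow]; exact h)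
  intro i j hij
  have hcases : ∀ i j : Fin 7, i ≠ j →
      ∃ v ∈ [((1 : ℤ), (0 : ℤ)), (0, 1), (1, 1), (1, -1), (2, 1), (1, 2), (2, 0), (0, 2), (2, 2)],
        let w := ([(1, 1), (1, 0), (0, 1), (0, 0), (0, -1), (-1, 0), (-1, -1)] : List (ℤ × ℤ))
        ((w.getD i.val (0, 0)).1 - (w.getD j.val (0, 0)).1, (w.getD i.val (0, 0)).2 - (w.getD j.val (0, 0)).2) = v ∨
        ((w.getD j.val (0, 0)).1 - (w.getD i.val (0, 0)).1, (w.getD j.val (0, 0)).2 - (w.getD i.val (0, 0)).2) = v := by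
    decide +kernel
  by_contra hne
  obtain ⟨v, hv, h | h⟩ := hcases i j hne
  · refine key v hv ?_
    rw [← h, ev_sub, ← rv_ev, ← rv_ev, hij, div_self']
  · refine key v hv ?_
    rw [← h, ev_sub, ← rv_ev, ← rv_ev, hij, div_self']

end Cfsg.Agent.Lib.G2Seven.Roots
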