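import Cfsg.Agent.Lib.G2Seven.Data
import Cfsg.Agent.Lib.ChevStructure.CommGL
import Cfsg.Agent.Lib.ChevStructure.WeylN
import Mathlib.Algebra.Module.BigOperators

/-!
The seven-dimensional representation of the Chevalley group of type G₂, recovered from the adjoint one:
conjugation on the span of fourteen matrices is a faithful action of the seven-dimensional group.
-/

set_option autoImplicit false
set_option linter.unusedSectionVars false
set_option maxRecDepth 100000

namespace Cfsg.Agent.Lib.G2Seven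

open Cfsg.Lie Cfsg.Agent.Lib.ChevStructure Matrix
open scoped MatrixGroups

/-- the core of G₂ -/
noncomputable abbrev C : Core chevG2 := Cert.G2.core

section Ring

variable {R : Type*} [CommRing R]

/-- cast of an integer matrix -/
def cst : M7 ℤ →+* M7 R := (Int.castRingHom R).mapMatrix

theorem cst_apply (M : M7 ℤ) (i j : Fin 7) : (cst M : M7 R) i j = (M i j : R) := rfl

theorem cst_smul (c : ℤ) (M : M7 ℤ) : (cst (c • M) : M7 R) = (c : R) • cst M := by
  ext i j
  show ((c * M i j : ℤ) : R) = (c : R) * (M i j : R)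
  push_cast
  rfl

/-- a root element -/
def xm (r : Rt chevG2) (t : R) : M7 R := 1 + t • cst (Xz r) + t ^ 2 • cst (Az r)

theorem xm_mul (r : Rt chevG2) (t u : R) : xm r t * xm r u = xm r (t + u) := by
  have h1 : (cst (Xz r) : M7 R) * cst (Xz r) = (2 : R) • cst (Az r) := by
    rw [← map_mul, show Xz r * Xz r = (2 : ℤ) • Az r from Matrix.ext fun i j => by
      rw [X_sq r i j, Matrix.smul_apply, smul_eq_mul], cst_smul]
    norm_num
  have h2 : (cst (Xz r) : M7 R) * cst (Az r) = 0 := by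
    rw [← map_mul, show Xz r * Az r = 0 from Matrix.ext fun i j => (X_A r i j).1, map_zero]
  have h3 : (cst (Az r) : M7 R) * cst (Xz r) = 0 := by
    rw [← map_mul, show Az r * Xz r = 0 from Matrix.ext fun i j => (X_A r i j).2.1, map_zero]
  have h4 : (cst (Az r) : M7 R) * cst (Az r) = 0 := by
    rw [← map_mul, show Az r * Az r = 0 from Matrix.ext fun i j => (X_A r i j).2.2, map_zero]
  simp only [xm, mul_add, add_mul, one_mul, mul_one, smul_mul_assoc, mul_smul_comm, h1, h2, h3, h4,
    smul_zero, add_zero, smul_smul]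
  module

theorem xm_zero (r : Rt chevG2) : xm r (0 : R) = 1 := by simp [xm]

/-- a root element as an invertible matrix -/
def xg (r : Rt chevG2) (t : R) : GL (Fin 7) R :=
  ⟨xm r t, xm r (-t), by rw [xm_mul, add_neg_cancel, xm_zero], by rw [xm_mul, neg_add_cancel, xm_zero]⟩

theorem xg_val (r : Rt chevG2) (t : R) : ((xg r t : GL (Fin 7) R) : M7 R) = xm r t := rfl

theorem xm_map {S : Type*} [CommRing S] (f : R →+* S) (r : Rt chevG2) (t : R) :
    (xm r t).map f = xm r (f t) := by
  ext i j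
  simp [xm, cst_apply, Matrix.one_apply, apply_ite f]

theorem xg_map {S : Type*} [CommRing S] (f : R →+* S) (r : Rt chevG2) (t : R) :
    Matrix.GeneralLinearGroup.map f (xg r t) = xg r (f t) := Units.ext (xm_map f r t)

/-- the basis of the Lie algebra -/
def bR (k : chevG2.Idx) : M7 R := cst (bz k)

/-- the coordinates -/
def coord (M : M7 R) (l : chevG2.Idx) : R := ∑ i, ∑ j, (cz l i j : R) * M i j

theorem coord_sum (c : chevG2.Idx → R) (l : chevG2.Idx) : coord (∑ k, c k • bR k) l = c l := by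
  have h : ∀ k, coord (bR k : M7 R) l = if l = k then 1 else 0 := fun k => by
    have h1 : (((∑ i, ∑ j, cz l i j * bz k i j : ℤ)) : R) = ((if l = k then 1 else 0 : ℤ) : R) := by
      rw [cz_bz l k]
    simpa [coord, bR, cst_apply, apply_ite ((↑) : ℤ → R)] using h1
  calc coord (∑ k, c k • bR k) l = ∑ k, c k * coord (bR k : M7 R) l := by
        simp only [coord, Matrix.sum_apply, Matrix.smul_apply, smul_eq_mul, Finset.mul_sum]
        rw [Finset.sum_comm_cycle]
        refine Finset.sum_congr rfl fun k _ => Finset.sum_congr rfl fun i _ => Finset.sum_congr rfl fun j _ => ?_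
        ring
    _ = c l := by simp [h]

theorem conj_expand (X A b : M7 R) (t : R) :
    (1 + t • X + t ^ 2 • A) * b * (1 + (-t) • X + (-t) ^ 2 • A) =
      b + t • (X * b - b * X) + t ^ 2 • (A * b + b * A - X * b * X) + t ^ 3 • (X * b * A - A * b * X)
        + t ^ 4 • (A * b * A) := by
  simp only [mul_add, add_mul, one_mul, mul_one, smul_mul_assoc, mul_smul_comm, smul_smul]
  module

theorem span_xm (r : Rt chevG2) (t : R) (k : chevG2.Idx) :
    xm r t * bR k * xm r (-t) = ∑ l, xI chevG2 R r t l k • (bR l : M7 R) := by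
  have e : ∀ (n : ℕ) (M : M7 ℤ), M = ∑ l, E chevG2 n r l k • bz l →
      (cst M : M7 R) = ∑ l, Ek chevG2 R n r l k • (bR l : M7 R) := by
    intro n M h
    rw [h, map_sum]
    exact Finset.sum_congr rfl fun l _ => cst_smul _ _
  have e0 : ∑ l, Ek chevG2 R 0 r l k • (bR l : M7 R) = bR k := by
    simp [C.Ek_zero, Matrix.one_apply]
  have h1 := e 1 _ (cf_one r k)
  have h2 := e 2 _ (cf_two r k)
  have h3 := e 3 _ (cf_three r k)
  have h4 : (cst (cf4 r k) : M7 R) = 0 := by rw [cf_four r k, map_zero]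
  simp only [cf1, cf2, cf3, cf4, map_sub, map_add, map_mul] at h1 h2 h3 h4
  rw [xm, xm, conj_expand, bR, h1, h2, h3, h4, smul_zero, add_zero]
  simp only [xI, Finset.sum_range_succ, Finset.range_zero, Finset.sum_empty, zero_add, pow_zero, one_smul,
    pow_one, Matrix.add_apply, Matrix.smul_apply, smul_eq_mul, add_smul, Finset.sum_add_distrib, mul_smul,
    ← Finset.smul_sum, e0]
  rfl

/-- the quadratic form -/
def Q (v : Fin 7 → R) : R := v ⬝ᵥ (cst Qz *ᵥ v)

/-- the polarised form -/
def B (v w : Fin 7 → R) : R := v ⬝ᵥ (cst Bz *ᵥ w)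

theorem Q_eq (v : Fin 7 → R) : Q v = -(v 0 * v 6) + v 1 * v 5 - v 2 * v 4 + v 3 * v 3 := by
  simp [Q, Matrix.mulVec, dotProduct, Fin.sum_univ_seven, cst_apply, Qz, ofList]
  ring

theorem B_eq (v w : Fin 7 → R) : B v w = -(v 0 * w 6) - v 6 * w 0 + (v 1 * w 5 + v 5 * w 1)
    - (v 2 * w 4 + v 4 * w 2) + 2 * (v 3 * w 3) := by
  simp [B, Matrix.mulVec, dotProduct, Fin.sum_univ_seven, cst_apply, Bz, ofList]
  ring

theorem B_polar (v w : Fin 7 → R) : B v w = Q (v + w) - Q v - Q w := by
  simp only [B_eq, Q_eq, Pi.add_apply]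
  ring

theorem B_symm (v w : Fin 7 → R) : B v w = B w v := by simp only [B_eq]; ring

end Ring

/-- the coefficients of the change of the quadratic form under a root element -/
def qc1 (r : Rt chevG2) : M7 ℤ := (Xz r)ᵀ * Qz + Qz * Xz r
/-- idem -/
def qc2 (r : Rt chevG2) : M7 ℤ := (Az r)ᵀ * Qz + Qz * Az r + (Xz r)ᵀ * Qz * Xz r
/-- idem -/
def qc3 (r : Rt chevG2) : M7 ℤ := (Xz r)ᵀ * Qz * Az r + (Az r)ᵀ * Qz * Xz r
/-- idem -/
def qc4 (r : Rt chevG2) : M7 ℤ := (Az r)ᵀ * Qz * Az r

/-- the part above the diagonal -/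
def upper (M : M7 ℤ) : M7 ℤ := Matrix.of fun i j => if i < j then M i j else 0

theorem qc_alt : ∀ r : Rt chevG2, qc1 r = upper (qc1 r) - (upper (qc1 r))ᵀ ∧
    qc2 r = upper (qc2 r) - (upper (qc2 r))ᵀ ∧ qc3 r = upper (qc3 r) - (upper (qc3 r))ᵀ ∧
    qc4 r = upper (qc4 r) - (upper (qc4 r))ᵀ := by decide +kernel

theorem tri_tab : ∀ (r : Rt chevG2) (i j : Fin 7), (Xz r i j ≠ 0 ∨ Az r i j ≠ 0) →
    if 6 ≤ r.val then i < j else j < i := by
  have h : ∀ p : Rt chevG2 × Fin 7 × Fin 7, (decide (Xz p.1 p.2.1 p.2.2 = 0) && decide (Az p.1 p.2.1 p.2.2 = 0)) = true ∨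
      (if 6 ≤ p.1.val then decide (p.2.1 < p.2.2) else decide (p.2.2 < p.2.1)) = true := by decide +kernel
  intro r i j hn
  rcases h (r, i, j) with h' | h'
  · simp only [Bool.and_eq_true, decide_eq_true_eq] at h'
    tauto
  · split_ifs at h' ⊢ <;> simpa using h'

section Ring

variable {R : Type*} [CommRing R]

theorem cst_transpose (M : M7 ℤ) : (cst Mᵀ : M7 R) = (cst M)ᵀ := rfl

theorem quad_alt {M : M7 ℤ} (h : M = upper M - (upper M)ᵀ) (v : Fin 7 → R) :
    v ⬝ᵥ (cst M *ᵥ v) = 0 := by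
  rw [h, map_sub, cst_transpose, Matrix.sub_mulVec, dotProduct_sub, Matrix.mulVec_transpose,
    Matrix.dotProduct_mulVec, dotProduct_comm v, sub_self]

theorem Q_xm (r : Rt chevG2) (t : R) (v : Fin 7 → R) : Q (xm r t *ᵥ v) = Q v := by
  obtain ⟨h1, h2, h3, h4⟩ := qc_alt r
  have e : (xm r t)ᵀ * cst Qz * xm r t = cst Qz + t • cst (qc1 r) + t ^ 2 • cst (qc2 r) +
      t ^ 3 • cst (qc3 r) + t ^ 4 • (cst (qc4 r) : M7 R) := by
    simp only [xm, qc1, qc2, qc3, qc4, map_add, map_mul, cst_transpose, Matrix.transpose_add,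
      Matrix.transpose_one, Matrix.transpose_smul, mul_add, add_mul, one_mul, mul_one, smul_mul_assoc,
      mul_smul_comm, smul_smul]
    module
  calc Q (xm r t *ᵥ v) = v ⬝ᵥ (((xm r t)ᵀ * cst Qz * xm r t) *ᵥ v) := by
        simp only [Q, ← Matrix.mulVec_mulVec, Matrix.dotProduct_mulVec, Matrix.vecMul_transpose]
    _ = Q v := by
        rw [e]
        simp only [Matrix.add_mulVec, Matrix.smul_mulVec, dotProduct_add, dotProduct_smul, quad_alt h1, quad_alt h2,
          quad_alt h3, quad_alt h4, smul_zero, add_zero]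
        rfl

theorem det_xm (r : Rt chevG2) (t : R) : (xm r t).det = 1 := by
  have hdiag : ∀ i, xm r t i i = 1 := by
    intro i
    have hx : Xz r i i = 0 := by
      by_contra h
      have := tri_tab r i i (Or.inl h)
      simp at this
    have ha : Az r i i = 0 := by
      by_contra h
      have := tri_tab r i i (Or.inr h)
      simp at this
    simp [xm, cst_apply, hx, ha]
  have hoff : ∀ i j, xm r t i j ≠ 0 → i = j ∨ (if 6 ≤ r.val then i < j else j < i) := by
    intro i j h
    by_cases hij : i = j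
    · exact Or.inl hij
    refine Or.inr (tri_tab r i j ?_)
    by_contra hc
    push Not at hc
    simp [xm, cst_apply, hij, hc.1, hc.2] at h
  have key : ∀ M : M7 R, M.IsUpperTriangular → (∀ i, M i i = 1) → M.det = 1 := fun M hM h1 => by
    rw [Matrix.det_of_isUpperTriangular hM, Finset.prod_eq_one fun i _ => h1 i]
  by_cases h6 : 6 ≤ r.val
  · refine key _ (fun i j hij => ?_) hdiag
    by_contra h
    rcases hoff i j h with rfl | h'
    · exact lt_irrefl _ hij
    · rw [if_pos h6] at h'; exact lt_asymm hij h'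
  · rw [← Matrix.det_transpose]
    refine key _ (fun i j hij => ?_) hdiag
    by_contra h
    rcases hoff j i h with rfl | h'
    · exact lt_irrefl _ hij
    · rw [if_neg h6] at h'; exact lt_asymm hij h'

theorem upper_xm {r : Rt chevG2} (hr : 6 ≤ r.val) (t : R) : (xm r t).IsUpperTriangular := by
  intro i j hij
  by_contra h
  have hne : i ≠ j := ne_of_gt hij
  refine lt_asymm hij ?_
  have := tri_tab r i j (by
    by_contra hc
    push Not at hc
    exact h (by simp [xm, cst_apply, hne, hc.1, hc.2]))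
  rwa [if_pos hr] at this

end Ring

variable (F : Type*) [Field F]

/-- invertible matrices of determinant one preserving the quadratic form and spanned algebra -/
def G7 : Subgroup (GL (Fin 7) F) := Subgroup.closure {g | ∃ r t, g = xg r t}

variable {F}

theorem xg_mem (r : Rt chevG2) (t : F) : xg r t ∈ G7 F := Subgroup.subset_closure ⟨r, t, rfl⟩

theorem Q_inv {g : GL (Fin 7) F} (hg : g ∈ G7 F) : ∀ v : Fin 7 → F, Q ((g : M7 F) *ᵥ v) = Q v := by
  induction hg using Subgroup.closure_induction with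
  | mem g hg => obtain ⟨r, t, rfl⟩ := hg; exact Q_xm r t
  | one => intro v; simp
  | mul g h _ _ hg hh =>
    intro v
    rw [Units.val_mul, ← Matrix.mulVec_mulVec, hg, hh]
  | inv g _ hg =>
    intro v
    rw [← hg, Matrix.mulVec_mulVec, Units.mul_inv, Matrix.one_mulVec]

theorem det_eq_one {g : GL (Fin 7) F} (hg : g ∈ G7 F) : (g : M7 F).det = 1 := by
  induction hg using Subgroup.closure_induction with
  | mem g hg => obtain ⟨r, t, rfl⟩ := hg; exact det_xm r t
  | one => simp
  | mul g h _ _ hg hh => rw [Units.val_mul, Matrix.det_mul, hg, hh, one_mul]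
  | inv g _ hg =>
    have h := congrArg Matrix.det (Units.inv_mul g)
    rwa [Matrix.det_mul, hg, mul_one, Matrix.det_one] at h

/-- conjugation of the basis in coordinates -/
def adM (g : GL (Fin 7) F) : Matrix chevG2.Idx chevG2.Idx F :=
  Matrix.of fun l k => coord ((g : M7 F) * bR k * ((g⁻¹ : GL (Fin 7) F) : M7 F)) l

/-- conjugation keeps the span -/
def InSpan (g : GL (Fin 7) F) : Prop :=
  ∀ k, (g : M7 F) * bR k * ((g⁻¹ : GL (Fin 7) F) : M7 F) = ∑ l, adM g l k • bR l

theorem adM_xg (r : Rt chevG2) (t : F) : adM (xg r t) = xI chevG2 F r t := by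
  ext l k
  show coord (xm r t * bR k * xm r (-t)) l = _
  rw [span_xm, coord_sum]

theorem inSpan_xg (r : Rt chevG2) (t : F) : InSpan (xg r t) := by
  intro k
  show xm r t * bR k * xm r (-t) = _
  rw [span_xm, adM_xg]

theorem conj_mul {g h : GL (Fin 7) F} (hg : InSpan g) (hh : InSpan h) (k : chevG2.Idx) :
    ((g * h : GL (Fin 7) F) : M7 F) * bR k * (((g * h)⁻¹ : GL (Fin 7) F) : M7 F) =
      ∑ l, (adM g * adM h) l k • bR l := by
  have e : ((g * h : GL (Fin 7) F) : M7 F) * bR k * (((g * h)⁻¹ : GL (Fin 7) F) : M7 F) =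
      (g : M7 F) * ((h : M7 F) * bR k * ((h⁻¹ : GL (Fin 7) F) : M7 F)) * ((g⁻¹ : GL (Fin 7) F) : M7 F) := by
    rw [_root_.mul_inv_rev, Units.val_mul, Units.val_mul]
    simp only [mul_assoc]
  rw [e, hh k, Matrix.mul_sum, Matrix.sum_mul]
  simp only [Matrix.mul_smul, Matrix.smul_mul, hg _, Finset.smul_sum, smul_smul]
  rw [Finset.sum_comm]
  refine Finset.sum_congr rfl fun m _ => ?_
  rw [← Finset.sum_smul, Matrix.mul_apply]
  exact congrArg (· • bR m) (Finset.sum_congr rfl fun l _ => mul_comm _ _)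

theorem adM_mul {g h : GL (Fin 7) F} (hg : InSpan g) (hh : InSpan h) :
    adM (g * h) = adM g * adM h := by
  ext l k
  show coord _ l = _
  rw [conj_mul hg hh k, coord_sum]

theorem inSpan_mul {g h : GL (Fin 7) F} (hg : InSpan g) (hh : InSpan h) : InSpan (g * h) := fun k => by
  rw [conj_mul hg hh k, adM_mul hg hh]

theorem adM_one : adM (1 : GL (Fin 7) F) = 1 := by
  ext l k
  show coord _ l = _
  rw [show ((1 : GL (Fin 7) F) : M7 F) * bR k * (((1 : GL (Fin 7) F)⁻¹ : GL (Fin 7) F) : M7 F) =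
    ∑ m, (1 : Matrix chevG2.Idx chevG2.Idx F) m k • bR m by simp [Matrix.one_apply], coord_sum]

theorem inSpan_one : InSpan (1 : GL (Fin 7) F) := fun k => by
  rw [adM_one]; simp [Matrix.one_apply]

theorem inSpan_mem {g : GL (Fin 7) F} (hg : g ∈ G7 F) : InSpan g := by
  induction hg using Subgroup.closure_induction'' with
  | mem g hg => obtain ⟨r, t, rfl⟩ := hg; exact inSpan_xg r t
  | inv_mem g hg =>
    obtain ⟨r, t, rfl⟩ := hg
    rw [show (xg r t)⁻¹ = xg r (-t) from Units.ext rfl]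
    exact inSpan_xg r (-t)
  | one => exact inSpan_one
  | mul g h _ _ hg hh => exact inSpan_mul hg hh

/-- the adjoint action -/
def adHom : ↥(G7 F) →* GL chevG2.Idx F :=
  MonoidHom.toHomUnits
    { toFun := fun g => adM g.1
      map_one' := adM_one
      map_mul' := fun g h => adM_mul (inSpan_mem g.2) (inSpan_mem h.2) }

theorem adHom_xg (r : Rt chevG2) (t : F) : adHom ⟨xg r t, xg_mem r t⟩ = C.X F r t :=
  Units.ext (adM_xg r t)

theorem range_adHom : (adHom : ↥(G7 F) →* GL chevG2.Idx F).range = chevG2.group F := by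
  apply le_antisymm
  · rintro - ⟨⟨g, hg⟩, rfl⟩
    induction hg using Subgroup.closure_induction with
    | mem g hg => obtain ⟨r, t, rfl⟩ := hg; rw [adHom_xg]; exact C.X_mem_group r t
    | one => exact (map_one (adHom (F := F))).symm ▸ one_mem _
    | mul g h hg hh i1 i2 =>
      exact (map_mul (adHom (F := F)) ⟨g, hg⟩ ⟨h, hh⟩).symm ▸ mul_mem i1 i2
    | inv g hg i1 => exact (map_inv (adHom (F := F)) ⟨g, hg⟩).symm ▸ inv_mem i1
  · refine (Subgroup.closure_le _).2 ?_
    rintro g ⟨r, t, hg⟩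
    refine ⟨⟨xg r t, xg_mem r t⟩, ?_⟩
    rw [adHom_xg]
    exact (C.eq_X (hg.trans (by rw [ChevalleyDatum.x, dif_pos r.isLt]))).symm

theorem entry_eq {k : M7 F} {m : chevG2.Idx} (h : k * bR m = bR m * k) (p q : Fin 7) :
    ∑ a, ∑ b, (commCoef (bz m) p q a b : F) * k a b = 0 := by
  have h' := congrFun (congrFun h p) q
  rw [Matrix.mul_apply, Matrix.mul_apply] at h'
  simp only [commCoef, Int.cast_sub, apply_ite ((↑) : ℤ → F), Int.cast_zero, sub_mul, ite_mul, zero_mul,
    Finset.sum_sub_distrib]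
  rw [Finset.sum_comm (f := fun a b => if b = q then (bz m p a : F) * k a b else 0)]
  simp only [Finset.sum_ite_irrel, Finset.sum_const_zero, Finset.sum_ite_eq', Finset.mem_univ, if_true]
  rw [sub_eq_zero]
  calc ∑ b, (bz m b q : F) * k p b = ∑ b, k p b * bR m b q :=
        Finset.sum_congr rfl fun b _ => mul_comm _ _
    _ = _ := h'

theorem commutant {k : M7 F} (h : ∀ m : chevG2.Idx, k * bR m = bR m * k) : k = k 3 3 • (1 : M7 F) := by
  have hs : ∀ s ∈ [(1 : ℤ), -1], (s : F) ≠ 0 := by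
    intro s hs
    fin_cases hs <;> simp
  have hoff : ∀ i j, i ≠ j → k i j = 0 := by
    intro i j hij
    obtain ⟨m, p, q, s, hs1, hc⟩ := off_cert i j hij
    have h1 := entry_eq (h m) p q
    simp only [hc] at h1
    simp only [apply_ite ((↑) : ℤ → F), Int.cast_zero, ite_mul, zero_mul, ite_and, Finset.sum_ite_irrel,
      Finset.sum_const_zero, Finset.sum_ite_eq', Finset.mem_univ, if_true] at h1
    exact (mul_eq_zero.1 h1).resolve_left (hs s hs1)
  have hd : ∀ e ∈ diagTab, ∀ a b : Fin 7, a.val = e.1 → b.val = e.2.1 → k a a = k b b := by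
    intro e he a b ha hb
    obtain ⟨s, hs1, hc⟩ := diag_cert e he
    have h1 := entry_eq (h e.2.2.1) (Fin.ofNat 7 e.2.2.2.1) (Fin.ofNat 7 e.2.2.2.2)
    simp only [hc, ← ha, ← hb, Fin.val_inj] at h1
    simp only [Int.cast_sub, apply_ite ((↑) : ℤ → F), Int.cast_zero, sub_mul, ite_mul, zero_mul, ite_and,
      Finset.sum_sub_distrib, Finset.sum_ite_irrel, Finset.sum_const_zero, Finset.sum_ite_eq',
      Finset.mem_univ, if_true] at h1
    rw [← mul_sub] at h1
    exact sub_eq_zero.1 ((mul_eq_zero.1 h1).resolve_left (hs s hs1))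
  have h05 := hd (0, 5, Sum.inr 0, 5, 0) (by simp [diagTab]) 0 5 rfl rfl
  have h16 := hd (1, 6, Sum.inr 0, 6, 1) (by simp [diagTab]) 1 6 rfl rfl
  have h04 := hd (0, 4, Sum.inr 1, 4, 0) (by simp [diagTab]) 0 4 rfl rfl
  have h26 := hd (2, 6, Sum.inr 1, 6, 2) (by simp [diagTab]) 2 6 rfl rfl
  have h03 := hd (0, 3, Sum.inr 2, 3, 0) (by simp [diagTab]) 0 3 rfl rfl
  have h14 := hd (1, 4, Sum.inr 2, 4, 1) (by simp [diagTab]) 1 4 rfl rfl
  ext i j
  rw [Matrix.smul_apply, Matrix.one_apply]
  by_cases hij : i = j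
  · subst hij
    rw [if_pos rfl, smul_eq_mul, mul_one]
    fin_cases i <;> first | exact h03 | rfl | exact h05.symm.trans h03 | exact h04.symm.trans h03 |
      exact h14.trans (h04.symm.trans h03) | exact h16.symm.trans (h14.trans (h04.symm.trans h03)) |
      exact h26.trans (h16.symm.trans (h14.trans (h04.symm.trans h03)))
  · simp [hoff i j hij, hij]

/-- elements of determinant one preserving the form are determined by their action on the Lie algebra -/
theorem eq_of_conj {g h : GL (Fin 7) F} (hdg : (g : M7 F).det = 1) (hdh : (h : M7 F).det = 1)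
    (hQg : ∀ v : Fin 7 → F, Q ((g : M7 F) *ᵥ v) = Q v) (hQh : ∀ v : Fin 7 → F, Q ((h : M7 F) *ᵥ v) = Q v)
    (he : ∀ k, (g : M7 F) * bR k * ((g⁻¹ : GL (Fin 7) F) : M7 F) =
      (h : M7 F) * bR k * ((h⁻¹ : GL (Fin 7) F) : M7 F)) : g = h := by
  have hcom : ∀ m, ((h⁻¹ * g : GL (Fin 7) F) : M7 F) * bR m = bR m * ((h⁻¹ * g : GL (Fin 7) F) : M7 F) := by
    intro m
    have h1 := congrArg (fun M => ((h⁻¹ : GL (Fin 7) F) : M7 F) * M * (g : M7 F)) (he m)
    simp only [mul_assoc, Units.inv_mul, mul_one] at h1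
    rw [Units.inv_mul_cancel_left] at h1
    rw [Units.val_mul, mul_assoc]
    exact h1
  set c := ((h⁻¹ * g : GL (Fin 7) F) : M7 F) 3 3 with hc
  have hk : ((h⁻¹ * g : GL (Fin 7) F) : M7 F) = c • (1 : M7 F) := commutant hcom
  have hg : (g : M7 F) = c • (h : M7 F) := by
    have := congrArg (fun M => (h : M7 F) * M) hk
    simpa [Units.val_mul, ← mul_assoc] using this
  have hc7 : c ^ 7 = 1 := by
    rw [hg, Matrix.det_smul, hdh, mul_one, Fintype.card_fin] at hdg
    exact hdg
  have hc2 : c ^ 2 = 1 := by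
    have h3 : Q (Pi.single 3 1 : Fin 7 → F) = 1 := by simp [Q_eq]
    have e1 := hQg (Pi.single 3 1)
    rw [hg, Matrix.smul_mulVec] at e1
    have e2 : ∀ v : Fin 7 → F, Q (c • v) = c ^ 2 * Q v := fun v => by simp [Q_eq]; ring
    rw [e2, hQh, h3, mul_one] at e1
    exact e1
  have : c = 1 := by
    calc c = c ^ 7 * ((c ^ 2) ^ 3)⁻¹ := by
          rw [← pow_mul, show (7 : ℕ) = 2 * 3 + 1 from rfl, pow_succ, mul_assoc, mul_comm c, ← mul_assoc,
            pow_mul, hc2]; simp
      _ = 1 := by rw [hc7, hc2]; simp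
  exact Units.ext (by rw [hg, this, one_smul])

theorem adHom_injective : Function.Injective (adHom : ↥(G7 F) →* GL chevG2.Idx F) := by
  intro g h e
  refine Subtype.ext (eq_of_conj (det_eq_one g.2) (det_eq_one h.2) (Q_inv g.2) (Q_inv h.2) fun k => ?_)
  rw [inSpan_mem g.2 k, inSpan_mem h.2 k, show adM g.1 = adM h.1 from congrArg Units.val e]

/-- the isomorphism of the seven-dimensional group onto the adjoint group -/
noncomputable def adEquiv : ↥(G7 F) ≃* ↥(chevG2.group F) :=
  (MonoidHom.ofInjective adHom_injective).trans (MulEquiv.subgroupCongr range_adHom)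

/-- the seven-dimensional representation -/
noncomputable def seven : ↥(chevG2.group F) →* GL (Fin 7) F :=
  (G7 F).subtype.comp adEquiv.symm.toMonoidHom

theorem seven_injective : Function.Injective (seven : ↥(chevG2.group F) →* GL (Fin 7) F) :=
  Subtype.coe_injective.comp adEquiv.symm.injective

theorem seven_mem (g : ↥(chevG2.group F)) : seven g ∈ G7 F := (adEquiv.symm g).2

theorem adM_seven (g : ↥(chevG2.group F)) :
    adM (seven g) = ((g : GL chevG2.Idx F) : Matrix chevG2.Idx chevG2.Idx F) :=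
  congrArg (fun x : ↥(chevG2.group F) => ((x : GL chevG2.Idx F) : Matrix chevG2.Idx chevG2.Idx F))
    (adEquiv.apply_symm_apply g)

/-- a root element of the group -/
noncomputable def X (r : Rt chevG2) (t : F) : ↥(chevG2.group F) := ⟨C.X F r t, C.X_mem_group r t⟩

theorem seven_X (r : Rt chevG2) (t : F) : seven (X r t) = xg r t := by
  have : adEquiv.symm (X r t) = ⟨xg r t, xg_mem r t⟩ :=
    adEquiv.symm_apply_eq.2 (Subtype.ext (adHom_xg r t).symm)
  exact congrArg Subtype.val this

theorem seven_eq {g : ↥(chevG2.group F)} {h : GL (Fin 7) F} (hd : (h : M7 F).det = 1)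
    (hQ : ∀ v : Fin 7 → F, Q ((h : M7 F) *ᵥ v) = Q v)
    (he : ∀ k, (h : M7 F) * bR k * ((h⁻¹ : GL (Fin 7) F) : M7 F) =
      ∑ l, (((g : GL chevG2.Idx F) : Matrix chevG2.Idx chevG2.Idx F) l k) • bR l) : seven g = h := by
  refine eq_of_conj (det_eq_one (seven_mem g)) hd (Q_inv (seven_mem g)) hQ fun k => ?_
  rw [inSpan_mem (seven_mem g) k, he, adM_seven]

theorem group_ext {H : Subgroup ↥(chevG2.group F)} (h : ∀ r t, X r t ∈ H) : H = ⊤ := by
  refine eq_top_iff.2 fun g _ => ?_
  have : ∀ x (hx : x ∈ chevG2.group F), (⟨x, hx⟩ : ↥(chevG2.group F)) ∈ H := by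
    intro x hx
    induction hx using Subgroup.closure_induction with
    | mem x hx =>
      obtain ⟨r, t, hx⟩ := hx
      have : x = C.X F r t := C.eq_X (hx.trans (by rw [ChevalleyDatum.x, dif_pos r.isLt]))
      subst this
      exact h r t
    | one => exact one_mem H
    | mul x y hx hy i1 i2 => exact mul_mem i1 i2
    | inv x hx i1 => exact inv_mem i1
  exact this g.1 g.2

end Cfsg.Agent.Lib.G2Seven
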