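import Mathlib.Algebra.Group.Units.Basic
import Mathlib.FieldTheory.Finite.Basic
import Mathlib.Tactic

/-!
Seven eigenvalues `{xy, x, y, 1, y⁻¹, x⁻¹, (xy)⁻¹}` stable under raising to the power `q`: the possible
exponents and multiplicities.
-/

set_option autoImplicit false

namespace Cfsg.Agent.Lib.G2Seven.Roots

variable {K : Type*} [Field K] [DecidableEq K]

/-- the seven values -/
def rv (x y : Kˣ) : Fin 7 → Kˣ := ![x * y, x, y, 1, y⁻¹, x⁻¹, (x * y)⁻¹]

/-- the values with multiplicity -/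
def ms (x y : Kˣ) : Multiset Kˣ := Finset.univ.val.map (rv x y)

theorem ms_eq (x y : Kˣ) :
    ms x y = {x * y} + {x} + {y} + {1} + {y⁻¹} + {x⁻¹} + {(x * y)⁻¹} := by
  rw [ms, Fin.univ_val_map]
  simp [rv, List.ofFn_succ, ← Multiset.coe_add]
  rfl

theorem mem_ms {x y a : Kˣ} : a ∈ ms x y ↔ ∃ i, rv x y i = a := by
  simp only [ms, Multiset.mem_map, Finset.mem_val, Finset.mem_univ, true_and]

/-- stability under the power `q` -/
def Stable (q : ℕ) (R : Multiset Kˣ) : Prop := R.map (· ^ q) = R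

/-- the multiplicities allowed and an exponent -/
inductive Kind (q : ℕ) (R : Multiset Kˣ) : Prop
  | regular (N : ℕ) (hN : N = q ^ 2 - 1 ∨ N = q ^ 2 + q + 1 ∨ N = q ^ 2 - q + 1)
      (h : ∀ a ∈ R, a ^ N = 1) (hc : ∀ a ∈ R, R.count a ≤ 1)
  | signed (e : Kˣ) (he : e ≠ 1) (he2 : e ^ 2 = 1) (h : ∀ a ∈ R, a ^ (q ^ 2 - 1) = 1)
      (hc : R.count e ≤ 2) (hc' : ∀ a ∈ R, a ≠ e → R.count a ≤ 1)
  | trivial (h : ∀ a ∈ R, a = 1)
  | inv (e : Kˣ) (he : e ≠ 1) (he2 : e ^ 2 = 1) (h : ∀ a ∈ R, a = 1 ∨ a = e) (hc : R.count 1 ≤ 3)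
      (hc' : R.count e ≤ 4)
  | short (N : ℕ) (hN : N = q - 1 ∨ N = q + 1) (h : ∀ a ∈ R, a ^ N = 1) (hc : R.count 1 ≤ 3)
      (hc' : ∀ a ∈ R, a ≠ 1 → R.count a ≤ 2)
  | cube (N : ℕ) (hN : N = q - 1 ∨ N = q + 1) (h : ∀ a ∈ R, a ^ N = 1) (h3 : ∀ a ∈ R, a ^ 3 = 1)
      (hc : ∀ a ∈ R, R.count a ≤ 3)

variable {q : ℕ} (hq : Function.Injective fun a : Kˣ => a ^ q)
include hq

theorem count_pow {R : Multiset Kˣ} (hS : Stable q R) (a : Kˣ) : R.count (a ^ q) = R.count a := by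
  conv_lhs => rw [← hS]
  exact Multiset.count_map_eq_count' _ _ hq _

theorem pow_mem {R : Multiset Kˣ} (hS : Stable q R) {a : Kˣ} (ha : a ∈ R) : a ^ q ∈ R := by
  rw [← hS]; exact Multiset.mem_map_of_mem _ ha

theorem pow_ne_one' {a : Kˣ} (ha : a ≠ 1) : a ^ q ≠ 1 := fun h => ha (hq (by simpa using h))

omit hq in
theorem exponent {t : Kˣ} (hq1 : 1 ≤ q) (h : t ^ q = t ∨ t ^ q = t⁻¹) :
    ∃ N, (N = q - 1 ∨ N = q + 1) ∧ t ^ N = 1 := by
  rcases h with h | h
  · refine ⟨q - 1, Or.inl rfl, ?_⟩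
    have : t ^ (q - 1) * t = 1 * t := by rw [← pow_succ, Nat.sub_add_cancel hq1, h, one_mul]
    exact mul_right_cancel this
  · exact ⟨q + 1, Or.inr rfl, by rw [pow_succ, h, inv_mul_cancel]⟩

theorem kind_one (hq1 : 1 ≤ q) (t : Kˣ) (hS : Stable q ({1} + {1} + {1} + {t} + {t} + {t⁻¹} + {t⁻¹})) :
    Kind q ({1} + {1} + {1} + {t} + {t} + {t⁻¹} + {t⁻¹} : Multiset Kˣ) := by
  by_cases h1 : t = 1
  · exact .trivial fun a ha => by simp [h1] at ha; exact ha
  by_cases h2 : t ^ 2 = 1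
  · have hi : t⁻¹ = t := inv_eq_of_mul_eq_one_right (by rw [← pow_two, h2])
    refine .inv t h1 h2 (fun a ha => ?_) ?_ ?_
    · simp [hi] at ha; tauto
    · simp [hi, Multiset.count_singleton, Ne.symm h1]
    · simp [hi, Multiset.count_singleton, h1]
  have ht' : t⁻¹ ≠ t := fun h => h2 (by
    rw [pow_two]
    calc t * t = t⁻¹ * t := by rw [h]
      _ = 1 := inv_mul_cancel t)
  have hm : t ^ q = t ∨ t ^ q = t⁻¹ := by
    have := pow_mem hq hS (a := t) (by simp)
    simp [pow_ne_one' hq h1] at this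
    tauto
  obtain ⟨N, hN, hN1⟩ := exponent hq1 hm
  refine .short N hN (fun a ha => ?_) ?_ (fun a ha ha1 => ?_)
  · simp at ha
    rcases ha with rfl | rfl | rfl
    · exact one_pow _
    · exact hN1
    · rw [inv_pow, hN1, inv_one]
  · have ht1 : (1 : Kˣ) ≠ t⁻¹ := fun h => h1 (inv_eq_one.1 h.symm)
    simp [Multiset.count_singleton, Ne.symm h1, ht1]
  · simp at ha
    rcases ha with rfl | rfl | rfl
    · exact absurd rfl ha1
    · simp [Multiset.count_singleton, h1, ht'.symm]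
    · simp [Multiset.count_singleton, h1, ht']

theorem kind_two (hq1 : 1 ≤ q) (t : Kˣ) (h1 : t ≠ 1) (h2 : t ^ 2 ≠ 1)
    (hS : Stable q ({1} + {t} + {t} + {t⁻¹} + {t⁻¹} + {t ^ 2} + {(t ^ 2)⁻¹})) :
    Kind q ({1} + {t} + {t} + {t⁻¹} + {t⁻¹} + {t ^ 2} + {(t ^ 2)⁻¹} : Multiset Kˣ) := by
  set R : Multiset Kˣ := {1} + {t} + {t} + {t⁻¹} + {t⁻¹} + {t ^ 2} + {(t ^ 2)⁻¹} with hR
  have ht' : t⁻¹ ≠ t := fun h => h2 (by
    rw [pow_two]
    calc t * t = t⁻¹ * t := by rw [h]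
      _ = 1 := inv_mul_cancel t)
  have hu : t ^ 2 ≠ t := fun h => h1 (mul_left_cancel (a := t) (by rw [← pow_two, h, mul_one]))
  have hu' : (t ^ 2)⁻¹ ≠ t⁻¹ := fun h => hu (inv_injective h)
  have hu0 : (t ^ 2)⁻¹ ≠ 1 := fun h => h2 (inv_eq_one.1 h)
  have ht0 : t⁻¹ ≠ 1 := fun h => h1 (inv_eq_one.1 h)
  by_cases h3 : t ^ 3 = 1
  · have e : t ^ 2 = t⁻¹ := eq_inv_of_mul_eq_one_left (by rw [← pow_succ, h3])
    have hm : t ^ q = t ∨ t ^ q = t⁻¹ := by
      have := pow_mem hq hS (a := t) (by simp [hR])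
      simp [hR, e, pow_ne_one' hq h1] at this
      tauto
    obtain ⟨N, hN, hN1⟩ := exponent hq1 hm
    refine .cube N hN (fun a ha => ?_) (fun a ha => ?_) (fun a ha => ?_)
    · simp [hR, e] at ha
      rcases ha with rfl | rfl | rfl | rfl <;> simp [hN1]
    · simp [hR, e] at ha
      rcases ha with rfl | rfl | rfl | rfl <;> simp [h3]
    · simp [hR, e] at ha
      rcases ha with rfl | rfl | rfl | rfl <;>
        simp [hR, e, Multiset.count_singleton, h1, ht', ht'.symm, ht0, Ne.symm h1, Ne.symm ht0]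
  have hut : t ^ 2 ≠ t⁻¹ := fun h => h3 (by rw [pow_succ, h, inv_mul_cancel])
  have hut' : (t ^ 2)⁻¹ ≠ t := fun h => hut (by
    rw [← inv_inv (t ^ 2), h])
  have hct : R.count t = 2 := by
    simp [hR, Multiset.count_singleton, h1, ht'.symm, hu.symm, hut'.symm]
  have hm : t ^ q = t ∨ t ^ q = t⁻¹ := by
    have hmem := pow_mem hq hS (a := t) (by simp [hR])
    have hc := count_pow hq hS t
    rw [hct] at hc
    simp [hR, pow_ne_one' hq h1] at hmem
    have aux : ∀ u : Kˣ, u ≠ 1 → u ^ 2 ≠ 1 ∨ u ^ q = u := by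
      intro u hu1
      by_cases hu2 : u ^ 2 = 1
      · refine Or.inr ?_
        rcases Nat.even_or_odd q with ⟨k, rfl⟩ | ⟨k, rfl⟩
        · exact absurd (by rw [← two_mul, pow_mul, hu2, one_pow]) (pow_ne_one' hq hu1)
        · rw [pow_succ, pow_mul, hu2, one_pow, one_mul]
      · exact Or.inl hu2
    by_cases hcoin : t ^ 2 = (t ^ 2)⁻¹
    · have h4 : (t ^ 2) ^ 2 = 1 := by
        rw [pow_two]
        calc t ^ 2 * t ^ 2 = (t ^ 2)⁻¹ * t ^ 2 := by rw [← hcoin]
          _ = 1 := inv_mul_cancel _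
      rcases hmem with h | h | h | h
      · exact Or.inl h
      · exact Or.inr h
      · exfalso
        rcases aux (t ^ 2) h2 with ha | ha
        · exact ha h4
        · exact hu (hq (show (t ^ 2) ^ q = t ^ q by rw [ha, h]))
      · exfalso
        rcases aux (t ^ 2) h2 with ha | ha
        · exact ha h4
        · exact hu (hq (show (t ^ 2) ^ q = t ^ q by rw [ha, h, ← hcoin]))
    · rcases hmem with h | h | h | h
      · exact Or.inl h
      · exact Or.inr h
      · rw [h] at hc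
        simp [hR, Multiset.count_singleton, h2, hu, hut, hcoin] at hc
      · rw [h] at hc
        simp [hR, Multiset.count_singleton, hu0, hu', hut', Ne.symm hcoin] at hc
  obtain ⟨N, hN, hN1⟩ := exponent hq1 hm
  refine .short N hN (fun a ha => ?_) ?_ (fun a ha ha1 => ?_)
  · simp [hR] at ha
    rcases ha with rfl | rfl | rfl | rfl | rfl
    · exact one_pow _
    · exact hN1
    · rw [inv_pow, hN1, inv_one]
    · rw [← pow_mul, mul_comm, pow_mul, hN1, one_pow]
    · rw [inv_pow, ← pow_mul, mul_comm, pow_mul, hN1, one_pow, inv_one]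
  · simp [hR, Multiset.count_singleton, Ne.symm h1, Ne.symm ht0, Ne.symm h2, Ne.symm hu0]
  · simp [hR] at ha
    rcases ha with rfl | rfl | rfl | rfl | rfl
    · exact absurd rfl ha1
    · exact hct.le
    · simp [hR, Multiset.count_singleton, ht0, ht', Ne.symm hut, Ne.symm hu']
    · by_cases hcoin : t ^ 2 = (t ^ 2)⁻¹
      · simp [hR, Multiset.count_singleton, h2, hu, hut, ← hcoin]
      · simp [hR, Multiset.count_singleton, h2, hu, hut, hcoin]
    · by_cases hcoin : t ^ 2 = (t ^ 2)⁻¹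
      · simp [hR, Multiset.count_singleton, h2, hu, hut, ← hcoin]
      · simp [hR, Multiset.count_singleton, hu0, hu', hut', Ne.symm hcoin]

theorem kind_signed (hq1 : 1 ≤ q) (e y : Kˣ) (he : e ≠ 1) (he2 : e ^ 2 = 1) (hy : y ≠ 1) (hye : y ≠ e)
    (hy2 : y ^ 2 ≠ 1) (hy2e : y ^ 2 ≠ e)
    (hS : Stable q ({e} + {e} + {1} + {y} + {y⁻¹} + {e * y} + {e * y⁻¹})) :
    Kind q ({e} + {e} + {1} + {y} + {y⁻¹} + {e * y} + {e * y⁻¹} : Multiset Kˣ) := by
  set R : Multiset Kˣ := {e} + {e} + {1} + {y} + {y⁻¹} + {e * y} + {e * y⁻¹} with hR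
  have hinv : e⁻¹ = e := inv_eq_of_mul_eq_one_right (by rw [← pow_two, he2])
  have hyy : y⁻¹ ≠ y := fun h => hy2 (by
    rw [pow_two]
    calc y * y = y⁻¹ * y := by rw [h]
      _ = 1 := inv_mul_cancel y)
  have hy1 : y⁻¹ ≠ 1 := fun h => hy (inv_eq_one.1 h)
  have hyi : y⁻¹ ≠ e := fun h => hye (by rw [← inv_inv y, h, hinv])
  have hey1 : e * y ≠ 1 := fun h => hye (by rw [← hinv]; exact eq_inv_of_mul_eq_one_right h)
  have heye : e * y ≠ e := fun h => hy (mul_left_cancel (a := e) (by rw [h, mul_one]))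
  have hey : e * y ≠ y := fun h => he (mul_right_cancel (b := y) (by rw [h, one_mul]))
  have heyi : e * y ≠ y⁻¹ := fun h => hy2e (by
    have : y ^ 2 = e⁻¹ := eq_inv_of_mul_eq_one_right (by rw [pow_two, ← mul_assoc, h, inv_mul_cancel])
    rw [this, hinv])
  have hei1 : e * y⁻¹ ≠ 1 := fun h => hye (mul_inv_eq_one.1 h).symm
  have heie : e * y⁻¹ ≠ e := fun h => hy1 (mul_left_cancel (a := e) (by rw [h, mul_one]))
  have heiy : e * y⁻¹ ≠ y := fun h => hy2e (by
    rw [pow_two]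
    calc y * y = e * y⁻¹ * y := by rw [h]
      _ = e := by rw [mul_assoc, inv_mul_cancel, mul_one])
  have heii : e * y⁻¹ ≠ y⁻¹ := fun h => he (mul_right_cancel (b := y⁻¹) (by rw [h, one_mul]))
  have heyy : e * y ≠ e * y⁻¹ := fun h => hyy (mul_left_cancel h).symm
  have he1 : e ^ q = e := by
    rcases Nat.even_or_odd q with ⟨k, rfl⟩ | ⟨k, rfl⟩
    · exact absurd (by rw [← two_mul, pow_mul, he2, one_pow]) (pow_ne_one' hq he)
    · rw [pow_succ, pow_mul, he2, one_pow, one_mul]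
  have hq2 : y ^ (q ^ 2) = y := by
    have h := pow_mem hq hS (a := y) (by simp [hR])
    simp [hR, pow_ne_one' hq hy] at h
    have hne : y ^ q ≠ e := fun h' => hye (hq (show y ^ q = e ^ q by rw [h', he1]))
    simp [hne] at h
    rcases h with h | h | h | h <;> rw [sq, pow_mul, h]
    · exact h
    · rw [inv_pow, h, inv_inv]
    · rw [mul_pow, he1, h, ← mul_assoc, ← pow_two, he2, one_mul]
    · rw [mul_pow, he1, inv_pow, h, _root_.mul_inv_rev, inv_inv, hinv, mul_left_comm, ← pow_two, he2, mul_one]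
  have hy0 : y ^ (q ^ 2 - 1) = 1 := by
    have : y ^ (q ^ 2 - 1) * y = 1 * y := by
      rw [← pow_succ, Nat.sub_add_cancel (Nat.one_le_pow _ _ hq1), hq2, one_mul]
    exact mul_right_cancel this
  have he0 : e ^ (q ^ 2 - 1) = 1 := by
    have : e ^ (q ^ 2 - 1) * e = 1 * e := by
      rw [← pow_succ, Nat.sub_add_cancel (Nat.one_le_pow _ _ hq1), sq, pow_mul, he1, he1, one_mul]
    exact mul_right_cancel this
  refine .signed e he he2 (fun a ha => ?_) ?_ (fun a ha hae => ?_)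
  · simp [hR] at ha
    rcases ha with rfl | rfl | rfl | rfl | rfl | rfl <;> simp [mul_pow, inv_pow, hy0, he0]
  · simp [hR, Multiset.count_singleton, he, hye.symm, hyi.symm, heye.symm, heie.symm]
  · simp [hR] at ha
    rcases ha with rfl | rfl | rfl | rfl | rfl | rfl
    · exact absurd rfl hae
    · simp [hR, Multiset.count_singleton, he.symm, hy.symm, hy1.symm, hey1.symm, hei1.symm]
    · simp [hR, Multiset.count_singleton, hye, hy, hyy.symm, hey.symm, heiy.symm]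
    · simp [hR, Multiset.count_singleton, hyi, hy1, hyy, heyi.symm, heii.symm]
    · simp [hR, Multiset.count_singleton, heye, hey1, hey, heyi, heyy]
    · simp [hR, Multiset.count_singleton, heie, hei1, heiy, heii, heyy.symm]

end Cfsg.Agent.Lib.G2Seven.Roots
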