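import Cfsg.Agent.Lib.G2Seven.Linear
import Cfsg.Agent.Lib.G2Seven.Regular
import Mathlib.LinearAlgebra.Matrix.Charpoly.Eigs
import Mathlib.FieldTheory.IsAlgClosed.AlgebraicClosure
import Mathlib.FieldTheory.Finite.Basic

/-!
The shape of an element of `G₂(q)` over the algebraic closure: conjugate to a triangular matrix with
the diagonal `{xy, x, y, 1, y⁻¹, x⁻¹, (xy)⁻¹}`, or of small order.
-/

set_option autoImplicit false
set_option linter.unusedSectionVars false
set_option maxRecDepth 20000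

namespace Cfsg.Agent.Lib.G2Seven

open Matrix Polynomial Cfsg.Lie
open scoped MatrixGroups

variable {F : Type*} [Field F]

/-- the matrix of an element over an extension -/
noncomputable def mat {K : Type*} [Field K] (f : F →+* K) (g : ↥(chevG2.group F)) : M7 K :=
  ((seven (mapG f g) : GL (Fin 7) K) : M7 K)

variable {K : Type*} [Field K] (f : F →+* K)

theorem mat_pow (g : ↥(chevG2.group F)) (n : ℕ) : mat f g ^ n = mat f (g ^ n) := by
  simp only [mat, map_pow, Units.val_pow_eq_pow_val]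

theorem eq_one_of_mat {g : ↥(chevG2.group F)} (h : mat f g = 1) : g = 1 := by
  refine mapG_injective f (seven_injective (Units.ext ?_))
  rw [map_one, map_one, Units.val_one]
  exact h

theorem pow_eq_one_of_mat {g : ↥(chevG2.group F)} {n : ℕ} (h : mat f g ^ n = 1) : g ^ n = 1 :=
  eq_one_of_mat f (by rw [← mat_pow, h])

theorem mat_Q (g : ↥(chevG2.group F)) (v : Fin 7 → K) : Q (mat f g *ᵥ v) = Q v :=
  Q_inv (seven_mem _) v

theorem mat_inv (g : ↥(chevG2.group F)) : mat f g * mat f g⁻¹ = 1 ∧ mat f g⁻¹ * mat f g = 1 := by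
  simp only [mat, map_inv, Units.mul_inv, Units.inv_mul, and_self]

theorem exists_eigvec {M : M7 K} {a : K} (ha : a ∈ M.charpoly.roots) :
    ∃ v : Fin 7 → K, v ≠ 0 ∧ M *ᵥ v = a • v := by
  have h0 : (Matrix.scalar (Fin 7) a - M).det = 0 := by
    rw [← Matrix.eval_charpoly]; exact (mem_roots'.1 ha).2
  obtain ⟨v, hv, h⟩ := Matrix.exists_mulVec_eq_zero_iff.2 h0
  refine ⟨v, hv, ?_⟩
  rw [Matrix.sub_mulVec, sub_eq_zero] at h
  rw [← h]
  funext i
  simp [Matrix.scalar_apply, Matrix.mulVec_diagonal]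

theorem hasDiag_of_isotropic [IsAlgClosed K] (g : ↥(chevG2.group F)) {v : Fin 7 → K} {a : K} (hv : v ≠ 0)
    (hQ : Q v = 0) (hg : mat f g *ᵥ v = a • v) :
    ∃ c : Fin chevG2.rank → Kˣ, HasDiag (mat f g) fun i => (wd c i : K) := by
  obtain ⟨h, hh⟩ := exists_conj_borel (g := mapG f g) hv hQ hg
  obtain ⟨h1, c, h2⟩ := seven_borel hh
  refine ⟨c, seven h, ?_, fun i => ?_⟩
  · simp only [map_mul, map_inv, Units.val_mul] at h1
    exact h1
  · have := h2 i
    simp only [map_mul, map_inv, Units.val_mul] at this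
    exact this

theorem shape [IsAlgClosed K] (p : ℕ) [Fact p.Prime] [CharP K p] (g : ↥(chevG2.group F)) :
    (p = 2 ∧ g ^ 8 = 1) ∨ (p ≠ 2 ∧ g ^ 2 = 1) ∨
    ∃ c : Fin chevG2.rank → Kˣ, HasDiag (mat f g) fun i => (wd c i : K) := by
  classical
  set M := mat f g with hM
  have hprod := (IsAlgClosed.splits M.charpoly).eq_prod_roots_of_monic (Matrix.charpoly_monic M)
  have hdeg : Multiset.card M.charpoly.roots = 7 := by
    rw [← (IsAlgClosed.splits M.charpoly).natDegree_eq_card_roots, Matrix.charpoly_natDegree_eq_dim]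
    rfl
  by_cases hall : ∃ a ∈ M.charpoly.roots, a ^ 2 ≠ 1
  · obtain ⟨a, ha, ha2⟩ := hall
    obtain ⟨v, hv, hMv⟩ := exists_eigvec ha
    refine Or.inr (Or.inr (hasDiag_of_isotropic f g hv ?_ hMv))
    have h := mat_Q f g v
    rw [← hM, hMv] at h
    have e : Q (a • v) = a ^ 2 * Q v := by simp only [Q_eq, Pi.smul_apply, smul_eq_mul]; ring
    rw [e] at h
    have : (a ^ 2 - 1) * Q v = 0 := by linear_combination h
    exact (mul_eq_zero.1 this).resolve_left (sub_ne_zero.2 ha2)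
  push Not at hall
  have hcle : ∀ a : K, M.charpoly.roots.count a ≤ 7 := fun a =>
    (Multiset.count_le_card a _).trans hdeg.le
  rcases eq_or_ne p 2 with rfl | hp2
  · refine Or.inl ⟨rfl, pow_eq_one_of_mat f ?_⟩
    have h := pow_eq_one_of_roots 2 3 hprod (N := 1) one_ne_zero (fun a ha => ?_)
      (fun a _ => (hcle a).trans (by norm_num))
    · simpa using h
    · have h1 : (a - 1) ^ 2 = 0 := by
        rw [sub_pow_char, one_pow, hall a ha, sub_self]
      rw [pow_one]
      exact sub_eq_zero.1 (pow_eq_zero_iff two_ne_zero |>.1 h1)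
  have h2 : (2 : K) ≠ 0 := by
    intro h
    have hd : p ∣ 2 := (CharP.cast_eq_zero_iff K p 2).1 (by simpa using h)
    exact hp2 ((Nat.prime_dvd_prime_iff_eq Fact.out Nat.prime_two).1 hd)
  by_cases hN0 : M ^ 2 = 1
  · exact Or.inr (Or.inl ⟨hp2, pow_eq_one_of_mat f hN0⟩)
  refine Or.inr (Or.inr ?_)
  set N := M ^ 2 - 1 with hN
  have hnil : N ^ 7 = 0 := by
    have hd : M.charpoly ∣ (Polynomial.X ^ 2 - 1 : K[X]) ^ 7 := by
      rw [hprod]
      have h0 : (Polynomial.X ^ 2 - 1 : K[X]) ≠ 0 := by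
        rw [← Polynomial.C_1]; exact X_pow_sub_C_ne_zero (by norm_num) 1
      refine dvd_of_count (pow_ne_zero _ h0) fun a ha => ?_
      rw [Polynomial.roots_pow, Multiset.count_nsmul]
      have h1 : 1 ≤ (Polynomial.X ^ 2 - 1 : K[X]).roots.count a := by
        rw [Multiset.one_le_count_iff_mem, mem_roots h0]
        simp [hall a ha]
      calc M.charpoly.roots.count a ≤ 7 * 1 := hcle a
        _ ≤ _ := Nat.mul_le_mul_left _ h1
    obtain ⟨s, hs⟩ := hd
    have h : aeval M ((Polynomial.X ^ 2 - 1 : K[X]) ^ 7) = 0 := by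
      rw [hs, map_mul, Matrix.aeval_self_charpoly, zero_mul]
    rw [map_pow, map_sub, map_pow, aeval_X, map_one] at h
    exact h
  have hex : ∃ k, N ^ k = 0 := ⟨7, hnil⟩
  set k := Nat.find hex with hk
  have hk0 : N ^ k = 0 := Nat.find_spec hex
  have hk2 : 2 ≤ k := by
    by_contra hlt
    have : k = 0 ∨ k = 1 := by omega
    rcases this with e | e <;> rw [e] at hk0
    · rw [pow_zero] at hk0; exact one_ne_zero hk0
    · rw [pow_one, hN, sub_eq_zero] at hk0; exact hN0 hk0
  obtain ⟨x, hx⟩ : ∃ x : Fin 7 → K, N ^ (k - 1) *ᵥ x ≠ 0 := by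
    by_contra h
    push Not at h
    refine Nat.find_min hex (show k - 1 < k by omega) (Matrix.ext_of_mulVec_single fun j => ?_)
    rw [h, Matrix.zero_mulVec]
  set y := N ^ (k - 2) *ᵥ x with hy
  set u := N *ᵥ y with hu
  have hu0 : u ≠ 0 := by
    rw [hu, hy, Matrix.mulVec_mulVec, ← pow_succ', show k - 2 + 1 = k - 1 by omega]; exact hx
  have hNu : N *ᵥ u = 0 := by
    rw [hu, hy, Matrix.mulVec_mulVec, Matrix.mulVec_mulVec, mul_assoc, ← pow_succ', ← pow_succ',
      show k - 2 + 1 + 1 = k by omega, hk0, Matrix.zero_mulVec]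
  have hMMu : M *ᵥ (M *ᵥ u) = u := by
    rw [hN, Matrix.sub_mulVec, Matrix.one_mulVec, sub_eq_zero, pow_two, ← Matrix.mulVec_mulVec] at hNu
    exact hNu
  have key : ∀ v : Fin 7 → K, (∃ z, v = N *ᵥ z) → M *ᵥ (M *ᵥ v) = v → Q v = 0 := by
    rintro v ⟨z, hz⟩ hv
    have hB : B v v = 0 := by
      have e1 : B v (M *ᵥ (M *ᵥ z)) = B v z := by
        conv_lhs => rw [← hv]
        rw [B_polar, B_polar, ← Matrix.mulVec_add, ← Matrix.mulVec_add, mat_Q f g, mat_Q f g, mat_Q f g,
          mat_Q f g, mat_Q f g, mat_Q f g]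
      have e2 : v = M *ᵥ (M *ᵥ z) - z := by
        rw [hz, hN, Matrix.sub_mulVec, Matrix.one_mulVec, pow_two, ← Matrix.mulVec_mulVec]
      conv_lhs => arg 2; rw [e2]
      rw [B_sub_right, e1, sub_self]
    have : (2 : K) * Q v = 0 := by
      simp only [B_eq] at hB; simp only [Q_eq]; linear_combination hB
    exact (mul_eq_zero.1 this).resolve_left h2
  by_cases hw : u + M *ᵥ u = 0
  · refine hasDiag_of_isotropic f g hu0 (key u ⟨y, hu⟩ hMMu) (a := -1) ?_
    rw [neg_smul, one_smul, ← hM]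
    exact eq_neg_of_add_eq_zero_right hw
  · refine hasDiag_of_isotropic f g hw (key _ ⟨y + M *ᵥ y, ?_⟩ ?_) (a := 1) ?_
    · have hc : N * M = M * N := by rw [hN, sub_mul, mul_sub, ← pow_succ, ← pow_succ', one_mul, mul_one]
      rw [Matrix.mulVec_add, ← hu, Matrix.mulVec_mulVec y N M, hc, ← Matrix.mulVec_mulVec, ← hu]
    · rw [Matrix.mulVec_add, Matrix.mulVec_add, hMMu]
    · rw [one_smul, ← hM, Matrix.mulVec_add, hMMu, add_comm]

end Cfsg.Agent.Lib.G2Seven
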