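import Cfsg.Agent.Lib.G2Seven.Upper
import Cfsg.Agent.Lib.G2Seven.Lower

/-!
The maximal element orders of `G₂(q)`.
-/

set_option autoImplicit false

namespace Cfsg.Agent.Lib.G2Seven.Spectrum

open Cfsg.Lie

theorem charP_of_card {F : Type*} [Field F] [Fintype F] {p a : ℕ} (hp : p.Prime) (ha : 1 ≤ a)
    (hF : Fintype.card F = p ^ a) : CharP F p := by
  obtain ⟨n, hn, e⟩ := FiniteField.card F (ringChar F)
  have h : ringChar F = p := by
    have h1 : p ∣ ringChar F ^ (n : ℕ) := by rw [← e, hF]; exact dvd_pow_self p (by omega)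
    exact ((Nat.prime_dvd_prime_iff_eq hp hn).1 (hp.dvd_of_dvd_pow h1)).symm
  exact h ▸ ringChar.charP F

theorem maximal_eq {G : Type*} [Monoid G] {S : Set ℕ} (hlow : ∀ n ∈ S, n ∈ Set.range (orderOf : G → ℕ))
    (hup : ∀ g : G, ∃ n ∈ S, orderOf g ∣ n) :
    {n : ℕ | n ∈ Set.range (orderOf : G → ℕ) ∧ ∀ m ∈ Set.range (orderOf : G → ℕ), n ∣ m → m = n} ⊆ S := by
  rintro n ⟨⟨g, rfl⟩, hmax⟩
  obtain ⟨N, hN, hd⟩ := hup g
  rwa [← hmax N (hlow N hN) hd]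

theorem maximal_eq_of_antichain {G : Type*} [Monoid G] {S : Set ℕ}
    (hlow : ∀ n ∈ S, n ∈ Set.range (orderOf : G → ℕ)) (hup : ∀ g : G, ∃ n ∈ S, orderOf g ∣ n)
    (hanti : ∀ n ∈ S, ∀ m ∈ S, n ∣ m → n = m) :
    {n : ℕ | n ∈ Set.range (orderOf : G → ℕ) ∧ ∀ m ∈ Set.range (orderOf : G → ℕ), n ∣ m → m = n} = S := by
  refine Set.Subset.antisymm (maximal_eq hlow hup) fun n hn => ⟨hlow n hn, ?_⟩
  rintro m ⟨g, rfl⟩ hnm
  obtain ⟨N, hN, hd⟩ := hup g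
  have e := hanti n hn N hN (hnm.trans hd)
  exact Nat.dvd_antisymm (e ▸ hd) hnm

set_option maxHeartbeats 1600000 in
theorem anti_arith {p q : ℕ} (hp : p.Prime) (hp2 : p ≠ 2) (hq : 5 ≤ q) (hpq : p ∣ q) :
    ∀ n ∈ ({p * (q + 1), p * (q - 1), q ^ 2 - 1, q ^ 2 + q + 1, q ^ 2 - q + 1} : Set ℕ) ∪ {p ^ 2},
    ∀ m ∈ ({p * (q + 1), p * (q - 1), q ^ 2 - 1, q ^ 2 + q + 1, q ^ 2 - q + 1} : Set ℕ) ∪ {p ^ 2},
      n ∣ m → n = m := by
  have h3 : 3 ≤ p := by have := hp.two_le; omega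
  have hqq : 5 * q ≤ q ^ 2 := by nlinarith
  set A := q ^ 2 - 1 with hA
  set B := q ^ 2 + q + 1 with hB
  set D := q ^ 2 - q + 1 with hD
  have c : ∀ x, x = q + 1 ∨ x = q - 1 ∨ x = A ∨ x = B ∨ x = D → ¬ p ∣ x := by
    intro x hx hpx
    obtain ⟨k, rfl⟩ := hpq
    have h1 : p ∣ p * k := dvd_mul_right p k
    have h2 : p ∣ (p * k) ^ 2 := dvd_pow h1 two_ne_zero
    have : p ∣ 1 := by
      rcases hx with rfl | rfl | rfl | rfl | rfl
      · exact (Nat.dvd_add_right h1).1 hpx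
      · have := Nat.dvd_sub h1 hpx; rwa [show p * k - (p * k - 1) = 1 by omega] at this
      · have := Nat.dvd_sub h2 hpx; rwa [show (p * k) ^ 2 - A = 1 by omega] at this
      · exact (Nat.dvd_add_right (dvd_add h2 h1)).1 hpx
      · exact (Nat.dvd_add_right (Nat.dvd_sub h2 h1)).1 hpx
    exact hp.one_lt.ne' (Nat.dvd_one.1 this)
  have cop : ∀ x, (x = A ∨ x = B ∨ x = D) → Nat.Coprime x p := fun x hx =>
    ((Nat.Prime.coprime_iff_not_dvd hp).2 (c x (Or.inr (Or.inr hx)))).symm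
  have gap : ∀ x y, x < y → y < 2 * x → ¬ x ∣ y := by
    rintro x y h1 h2 ⟨k, rfl⟩
    rcases k with _ | _ | k
    · simp at h1
    · simp at h1
    · have : x * (k + 1 + 1) = x * k + 2 * x := by ring
      omega
  have small : ∀ x y, 0 < y → y < x → ¬ x ∣ y := fun x y h0 h h' => absurd (Nat.le_of_dvd h0 h') (not_le.2 h)
  intro n hn m hm h
  simp only [Set.mem_union, Set.mem_insert_iff, Set.mem_singleton_iff] at hn hm
  have hbig : ∀ x, (x = A ∨ x = B ∨ x = D) → (¬ x ∣ p * (q + 1)) ∧ (¬ x ∣ p * (q - 1)) ∧ ¬ x ∣ p ^ 2 := by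
    intro x hx
    have hlt : q + 1 < x := by rcases hx with rfl | rfl | rfl <;> omega
    refine ⟨fun h' => small _ _ (by omega) hlt ((cop x hx).dvd_of_dvd_mul_left h'),
      fun h' => small x (q - 1) (by omega) (by omega) ((cop x hx).dvd_of_dvd_mul_left h'), fun h' => ?_⟩
    have := Nat.Coprime.eq_one_of_dvd ((cop x hx).pow_right 2) h'
    omega
  have hpm : ∀ x y, (y = A ∨ y = B ∨ y = D) → ¬ p * x ∣ y := fun x y hy h' =>
    c y (Or.inr (Or.inr hy)) ((dvd_mul_right p x).trans h')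
  have hp1 : ∀ x, (x = q + 1 ∨ x = q - 1) → (¬ p * x ∣ p ^ 2) ∧ ¬ p ^ 2 ∣ p * x := by
    intro x hx
    have hx1 : ¬ p ∣ x := c x (by tauto)
    refine ⟨fun h' => ?_, fun h' => hx1 (Nat.dvd_of_mul_dvd_mul_left hp.pos (by rwa [← pow_two]))⟩
    rw [pow_two] at h'
    rcases (Nat.dvd_prime hp).1 (Nat.dvd_of_mul_dvd_mul_left hp.pos h') with e | e
    · omega
    · exact hx1 (e ▸ dvd_rfl)
  have hp2d : ∀ y, (y = A ∨ y = B ∨ y = D) → ¬ p ^ 2 ∣ y := fun y hy h' =>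
    hpm p y hy (by rwa [← pow_two])
  rcases hn with (rfl | rfl | rfl | rfl | rfl) | rfl <;> rcases hm with (rfl | rfl | rfl | rfl | rfl) | rfl <;>
    first
      | rfl
      | exact absurd h (hpm _ _ (by tauto))
      | exact absurd h (hbig _ (by tauto)).1
      | exact absurd h (hbig _ (by tauto)).2.1
      | exact absurd h (hbig _ (by tauto)).2.2
      | exact absurd h (hp1 _ (by tauto)).1
      | exact absurd h (hp1 _ (by tauto)).2
      | exact absurd h (hp2d _ (by tauto))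
      | exact absurd (Nat.dvd_of_mul_dvd_mul_left hp.pos h) (small _ _ (by omega) (by omega))
      | exact absurd (Nat.dvd_of_mul_dvd_mul_left hp.pos h) (gap _ _ (by omega) (by omega))
      | exact absurd h (small _ _ (by omega) (by omega))
      | exact absurd h (gap _ _ (by omega) (by omega))

theorem odd_spectrum {F : Type*} [Field F] [Fintype F] (p a : ℕ) (hp : p.Prime) (hp2 : p ≠ 2) (ha : 1 ≤ a)
    (hF : Fintype.card F = p ^ a) (hq5 : 5 ≤ Fintype.card F) :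
    {n : ℕ | n ∈ Set.range (orderOf : ↥(chevG2.group F) → ℕ) ∧
        ∀ m ∈ Set.range (orderOf : ↥(chevG2.group F) → ℕ), n ∣ m → m = n} =
      ({p * (p ^ a + 1), p * (p ^ a - 1), p ^ (2 * a) - 1, p ^ (2 * a) + p ^ a + 1, p ^ (2 * a) - p ^ a + 1} : Set ℕ) ∪
        (if p = 3 ∨ p = 5 then ({p ^ 2} : Set ℕ) else ∅) := by
  have := Fact.mk hp
  have : CharP F p := charP_of_card hp ha hF
  rw [hF] at hq5
  rw [show p ^ (2 * a) = (p ^ a) ^ 2 by rw [← pow_mul, mul_comm]]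
  have hpq : p ∣ p ^ a := dvd_pow_self p (by omega)
  have h2 : 2 ∣ p ^ a - 1 := by
    obtain ⟨k, hk⟩ := (hp.odd_of_ne_two hp2).pow (n := a)
    exact ⟨k, by omega⟩
  refine maximal_eq_of_antichain ?_ (fun g => ?_) fun n hn m hm h => anti_arith hp hp2 hq5 hpq n ?_ m ?_ h
  · obtain ⟨g1, e1⟩ := Lower.exists_p_mul_succ (p := p) hF hpq
    obtain ⟨g2, e2⟩ := Lower.exists_p_mul_pred (p := p) hF hpq
    obtain ⟨g3, e3⟩ := Lower.exists_sq_sub_one hF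
    obtain ⟨⟨g4, e4⟩, g5, e5⟩ := Lower.exists_cyclo hF (by omega)
    intro n hn
    rcases hn with hn | hn
    · simp only [Set.mem_insert_iff, Set.mem_singleton_iff] at hn
      rcases hn with rfl | rfl | rfl | rfl | rfl
      exacts [⟨g1, e1⟩, ⟨g2, e2⟩, ⟨g3, e3⟩, ⟨g4, e4⟩, ⟨g5, e5⟩]
    · split_ifs at hn with h35
      · rw [Set.mem_singleton_iff] at hn
        subst hn
        exact (Lower.exists_unipotent (F := F) (p := p)).1 h35
      · exact absurd hn (Set.notMem_empty n)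
  · have hh2 : 2 ∣ (p ^ a) ^ 2 - 1 := by
      rw [show (p ^ a) ^ 2 - 1 = (p ^ a + 1) * (p ^ a - 1) by rw [← Nat.sq_sub_sq, one_pow]]
      exact h2.mul_left _
    rcases spectrum_upper p a hp ha hF g with ⟨N, hN, h⟩ | ⟨N, hN, h⟩ | ⟨-, h⟩ | ⟨-, h⟩ | h | ⟨h35, h⟩ | ⟨h', -⟩ | ⟨h', -⟩
    · refine ⟨N, Or.inl ?_, orderOf_dvd_of_pow_eq_one h⟩
      simp only [Set.mem_insert_iff, Set.mem_singleton_iff]; tauto
    · refine ⟨p * N, Or.inl ?_, orderOf_dvd_of_pow_eq_one h⟩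
      rcases hN with rfl | rfl <;> simp
    · exact ⟨p * (p ^ a - 1), Or.inl (by simp), (orderOf_dvd_of_pow_eq_one h).trans
        (by rw [mul_comm 2]; exact Nat.mul_dvd_mul_left p h2)⟩
    · exact ⟨(p ^ a) ^ 2 - 1, Or.inl (by simp), (orderOf_dvd_of_pow_eq_one h).trans hh2⟩
    · exact ⟨p * (p ^ a - 1), Or.inl (by simp), (orderOf_dvd_of_pow_eq_one h).trans (dvd_mul_right _ _)⟩
    · exact ⟨p ^ 2, Or.inr (by simp [h35]), orderOf_dvd_of_pow_eq_one h⟩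
    · exact absurd h' hp2
    · exact absurd h' hp2
  all_goals
    first
      | (rcases hn with hn | hn
         · exact Or.inl hn
         · split_ifs at hn
           · exact Or.inr hn
           · exact absurd hn (Set.notMem_empty _))
      | (rcases hm with hm | hm
         · exact Or.inl hm
         · split_ifs at hm
           · exact Or.inr hm
           · exact absurd hm (Set.notMem_empty _))

theorem even_spectrum {F : Type*} [Field F] [Fintype F] (a : ℕ) (ha : 2 ≤ a) (hF : Fintype.card F = 2 ^ a) :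
    {n : ℕ | n ∈ Set.range (orderOf : ↥(chevG2.group F) → ℕ) ∧
        ∀ m ∈ Set.range (orderOf : ↥(chevG2.group F) → ℕ), n ∣ m → m = n} ⊆
      ({8, 12, 2 * (2 ^ a + 1), 2 * (2 ^ a - 1), 2 ^ (2 * a) - 1, 2 ^ (2 * a) + 2 ^ a + 1,
        2 ^ (2 * a) - 2 ^ a + 1} : Set ℕ) ∧
    ({8, 12, 2 * (2 ^ a + 1), 2 * (2 ^ a - 1), 2 ^ (2 * a) - 1, 2 ^ (2 * a) + 2 ^ a + 1,
        2 ^ (2 * a) - 2 ^ a + 1} : Set ℕ) ⊆ Set.range (orderOf : ↥(chevG2.group F) → ℕ) := by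
  have : CharP F 2 := charP_of_card Nat.prime_two (by omega) hF
  have hq4 : 4 ≤ 2 ^ a := le_trans (by norm_num) (Nat.pow_le_pow_right (by norm_num) ha)
  rw [show 2 ^ (2 * a) = (2 ^ a) ^ 2 by rw [← pow_mul, mul_comm]]
  have hpq : 2 ∣ 2 ^ a := dvd_pow_self 2 (by omega)
  have hlow : ∀ n ∈ ({8, 12, 2 * (2 ^ a + 1), 2 * (2 ^ a - 1), (2 ^ a) ^ 2 - 1, (2 ^ a) ^ 2 + 2 ^ a + 1,
      (2 ^ a) ^ 2 - 2 ^ a + 1} : Set ℕ), n ∈ Set.range (orderOf : ↥(chevG2.group F) → ℕ) := by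
    obtain ⟨g1, e1⟩ := Lower.exists_p_mul_succ (p := 2) hF hpq
    obtain ⟨g2, e2⟩ := Lower.exists_p_mul_pred (p := 2) hF hpq
    obtain ⟨g3, e3⟩ := Lower.exists_sq_sub_one hF
    obtain ⟨⟨g4, e4⟩, g5, e5⟩ := Lower.exists_cyclo hF (by omega)
    obtain ⟨g6, e6⟩ := (Lower.exists_unipotent (F := F) (p := 2)).2 rfl
    obtain ⟨g7, e7⟩ := Lower.exists_twelve (F := F)
    intro n hn
    simp only [Set.mem_insert_iff, Set.mem_singleton_iff] at hn
    rcases hn with rfl | rfl | rfl | rfl | rfl | rfl | rfl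
    exacts [⟨g6, e6⟩, ⟨g7, e7⟩, ⟨g1, e1⟩, ⟨g2, e2⟩, ⟨g3, e3⟩, ⟨g4, e4⟩, ⟨g5, e5⟩]
  refine ⟨maximal_eq hlow fun g => ?_, hlow⟩
  rcases spectrum_upper 2 a Nat.prime_two (by omega) hF g with
    ⟨N, hN, h⟩ | ⟨N, hN, h⟩ | ⟨h', -⟩ | ⟨h', -⟩ | h | ⟨h', -⟩ | ⟨-, h⟩ | ⟨-, h⟩
  · refine ⟨N, ?_, orderOf_dvd_of_pow_eq_one h⟩
    simp only [Set.mem_insert_iff, Set.mem_singleton_iff]; tauto
  · refine ⟨2 * N, ?_, orderOf_dvd_of_pow_eq_one h⟩
    rcases hN with rfl | rfl <;> simp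
  · exact absurd rfl h'
  · exact absurd rfl h'
  · exact ⟨8, by simp, (orderOf_dvd_of_pow_eq_one h).trans (by norm_num)⟩
  · omega
  · exact ⟨8, by simp, orderOf_dvd_of_pow_eq_one h⟩
  · exact ⟨12, by simp, orderOf_dvd_of_pow_eq_one h⟩

end Cfsg.Agent.Lib.G2Seven.Spectrum
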