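import Cfsg.Agent.Lib.G2Seven.Shape
import Mathlib.Algebra.CharP.Frobenius

/-!
Every element of `G₂(q)` has order dividing one of the numbers of the spectrum.
-/

set_option autoImplicit false
set_option linter.unusedSectionVars false
set_option maxRecDepth 20000

namespace Cfsg.Agent.Lib.G2Seven

open Matrix Polynomial Cfsg.Lie Roots
open scoped MatrixGroups

variable {K : Type*} [Field K]

theorem wd_rv (c : Fin chevG2.rank → Kˣ) : ∀ i, wd c i = rv (wd c 1) (wd c 2) i := by
  have h : ∀ i, wd c i = c ⟨0, by decide⟩ ^ wexp ⟨0, by decide⟩ i * c ⟨1, by decide⟩ ^ wexp ⟨1, by decide⟩ i :=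
    fun i => Fin.prod_univ_two (fun j : Fin 2 => c j ^ wexp j i)
  intro i
  fin_cases i <;>
    simp [rv, h, wexp, _root_.zpow_neg, _root_.mul_inv_rev, zpow_ofNat, pow_two, mul_assoc, mul_comm, mul_left_comm]

theorem roots_of_diag (d : Multiset K) {P : K[X]}
    (h : P = (d.map fun a => Polynomial.X - Polynomial.C a).prod) : P.roots = d := by
  rw [h, Polynomial.roots_multiset_prod_X_sub_C]

theorem pow_sub_one_eq (e : K) {N : ℕ} (h : e ^ N = 1) :
    ∃ P : K[X], (Polynomial.X - Polynomial.C e) * P = Polynomial.X ^ N - 1 := by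
  obtain ⟨P, hP⟩ := (dvd_iff_isRoot (p := (Polynomial.X ^ N - 1 : K[X])) (a := e)).2 (by simp [h])
  exact ⟨P, hP.symm⟩

theorem count_X_pow_sub_one [DecidableEq K] {N : ℕ} (hN : N ≠ 0) {a : K} (h : a ^ N = 1) :
    (Polynomial.X ^ N - 1 : K[X]) ≠ 0 ∧ 1 ≤ (Polynomial.X ^ N - 1 : K[X]).roots.count a := by
  have h0 : (Polynomial.X ^ N - 1 : K[X]) ≠ 0 := by
    rw [← Polynomial.C_1]; exact X_pow_sub_C_ne_zero (Nat.pos_of_ne_zero hN) 1
  refine ⟨h0, ?_⟩
  rw [Multiset.one_le_count_iff_mem, mem_roots h0]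
  simp [h]

variable {F : Type*} [Field F]

/-- the data of an element with known diagonal -/
structure Diag (f : F →+* K) (g : ↥(chevG2.group F)) (R : Multiset Kˣ) : Prop where
  diag : ∃ c : Fin chevG2.rank → Kˣ, HasDiag (mat f g) (fun i => (wd c i : K)) ∧ R = Finset.univ.val.map (wd c)

namespace Diag

variable {f : F →+* K} {g : ↥(chevG2.group F)} {R : Multiset Kˣ} [DecidableEq K] (H : Diag f g R)
include H

theorem charpoly : (mat f g).charpoly = ((R.map Units.val).map fun a => Polynomial.X - Polynomial.C a).prod := by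
  obtain ⟨c, hd, rfl⟩ := H.diag
  rw [hd.charpoly, Multiset.map_map Units.val]
  rfl

theorem card : Multiset.card R = 7 := by
  obtain ⟨c, hd, rfl⟩ := H.diag
  simp

/-- exponent from multiplicities -/
theorem pow_one' (p k : ℕ) [Fact p.Prime] [CharP K p] {N : ℕ} (hN : N ≠ 0) (hR : ∀ a ∈ R, a ^ N = 1)
    (hc : ∀ a ∈ R, R.count a ≤ p ^ k) : g ^ (N * p ^ k) = 1 := by
  refine pow_eq_one_of_mat f (pow_eq_one_of_roots p k H.charpoly hN (fun a ha => ?_) fun a ha => ?_)
  · obtain ⟨b, hb, rfl⟩ := Multiset.mem_map.1 ha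
    rw [← Units.val_pow_eq_pow_val, hR b hb, Units.val_one]
  · obtain ⟨b, hb, rfl⟩ := Multiset.mem_map.1 ha
    rw [Multiset.count_map_eq_count' _ _ Units.val_injective]
    exact hc b hb

/-- divisibility of the characteristic polynomial -/
theorem dvd {P : K[X]} (hP : P ≠ 0) (h : ∀ b ∈ R, R.count b ≤ P.roots.count (b : K)) :
    (mat f g).charpoly ∣ P := by
  rw [H.charpoly]
  refine dvd_of_count hP fun a ha => ?_
  obtain ⟨b, hb, rfl⟩ := Multiset.mem_map.1 ha
  rw [Multiset.count_map_eq_count' _ _ Units.val_injective]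
  exact h b hb

/-- a power of the unipotent part of a power has rank at most one -/
theorem rank (e : Kˣ) (m : ℕ) (S : K[X]) (hS : (mat f g).charpoly ∣ (Polynomial.X - Polynomial.C (e : K)) ^ (m + 1) * S)
    (hc : R.count e ≤ m + 1) {N j : ℕ}
    (heq : (Polynomial.X - Polynomial.C (e : K)) ^ m * S = (Polynomial.X ^ N - 1 : K[X]) ^ j) :
    ∃ w : Fin 7 → K, ∀ x, ∃ b : K, (mat f (g ^ N) - 1) ^ j *ᵥ x = b • w := by
  obtain ⟨c, hd, hR⟩ := H.diag
  have hcard : (Finset.univ.filter fun i => (wd c i : K) = (e : K)).card ≤ m + 1 := by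
    refine le_trans (le_of_eq ?_) hc
    rw [hR, Multiset.count_map, Finset.card_def]
    rw [Finset.filter_val]
    exact congrArg Multiset.card (Multiset.filter_congr fun i _ => by rw [Units.val_inj, eq_comm])
  obtain ⟨w, hw⟩ := rank_le_one hd (e : K) m S hS hcard
  refine ⟨w, fun x => ?_⟩
  have := hw x
  rw [heq, map_pow, map_sub, map_pow, aeval_X, map_one, mat_pow] at this
  exact this

theorem unip {N j : ℕ} (h : (mat f g).charpoly ∣ (Polynomial.X ^ N - 1 : K[X]) ^ j) :
    (mat f (g ^ N) - 1) ^ j = 0 := by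
  have h' : aeval (mat f g) ((Polynomial.X ^ N - 1 : K[X]) ^ j) = 0 := by
    obtain ⟨s, hs⟩ := h
    rw [hs, map_mul, Matrix.aeval_self_charpoly, zero_mul]
  rw [map_pow, map_sub, map_pow, aeval_X, map_one, mat_pow] at h'
  exact h'

theorem signed (h2 : (2 : K) ≠ 0) {N : ℕ} (hN : N ≠ 0) (e : Kˣ) (he : e ^ N = 1) (h : ∀ a ∈ R, a ^ N = 1)
    (hc : R.count e ≤ 2) (hc' : ∀ a ∈ R, a ≠ e → R.count a ≤ 1) : g ^ N = 1 := by
  have he' : (e : K) ^ N = 1 := by rw [← Units.val_pow_eq_pow_val, he, Units.val_one]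
  have hb : ∀ b ∈ R, (Polynomial.X ^ N - 1 : K[X]) ≠ 0 ∧ 1 ≤ (Polynomial.X ^ N - 1 : K[X]).roots.count (b : K) :=
    fun b hb => count_X_pow_sub_one hN (by rw [← Units.val_pow_eq_pow_val, h b hb, Units.val_one])
  obtain ⟨h0, he1⟩ := count_X_pow_sub_one hN he'
  obtain ⟨P, hP⟩ := pow_sub_one_eq (e : K) he'
  have hne : (Polynomial.X - Polynomial.C (e : K)) * (Polynomial.X ^ N - 1 : K[X]) ≠ 0 :=
    mul_ne_zero (X_sub_C_ne_zero _) h0
  have hdvd : (mat f g).charpoly ∣ (Polynomial.X - Polynomial.C (e : K)) ^ (1 + 1) * P := by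
    rw [pow_succ, pow_one, mul_assoc, hP]
    refine H.dvd hne fun b hbm => ?_
    rw [roots_mul hne, roots_X_sub_C, Multiset.count_add]
    have := (hb b hbm).2
    by_cases hbe : b = e
    · subst hbe; simp only [Multiset.count_singleton_self]; omega
    · have := hc' b hbm hbe; omega
  have hsq : (mat f (g ^ N) - 1) ^ (1 + 1) = 0 := by
    refine H.unip (H.dvd (pow_ne_zero _ h0) fun b hbm => ?_)
    rw [roots_pow, Multiset.count_nsmul]
    have := (hb b hbm).2
    by_cases hbe : b = e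
    · subst hbe; omega
    · have := hc' b hbm hbe; omega
  obtain ⟨w, hw⟩ := H.rank e 1 P hdvd (by omega) (N := N) (j := 1) (by rw [pow_one, pow_one]; exact hP)
  obtain ⟨i1, i2⟩ := mat_inv f (g ^ N)
  have := top_eq_zero_odd i1 i2 (mat_Q f _) h2 odd_one hsq hw
  rw [pow_one, sub_eq_zero] at this
  exact eq_one_of_mat f this

theorem short_two [CharP K 2] {N : ℕ} (hN : N ≠ 0) (h : ∀ a ∈ R, a ^ N = 1) (hc : R.count 1 ≤ 3)
    (hc' : ∀ a ∈ R, a ≠ 1 → R.count a ≤ 2) : g ^ (2 * N) = 1 := by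
  have hb : ∀ b ∈ R, 1 ≤ (Polynomial.X ^ N - 1 : K[X]).roots.count (b : K) :=
    fun b hb => (count_X_pow_sub_one hN (by rw [← Units.val_pow_eq_pow_val, h b hb, Units.val_one])).2
  obtain ⟨h0, h11⟩ := count_X_pow_sub_one (K := K) hN (one_pow N)
  obtain ⟨P, hP⟩ := pow_sub_one_eq (1 : K) (one_pow N)
  have hne : (Polynomial.X - Polynomial.C (1 : K)) * (Polynomial.X ^ N - 1 : K[X]) ^ 2 ≠ 0 :=
    mul_ne_zero (X_sub_C_ne_zero _) (pow_ne_zero _ h0)
  have hdvd : (mat f g).charpoly ∣ (Polynomial.X - Polynomial.C ((1 : Kˣ) : K)) ^ (2 + 1) * P ^ 2 := by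
    rw [Units.val_one, pow_succ', mul_assoc, ← mul_pow, hP]
    refine H.dvd hne fun b hbm => ?_
    rw [roots_mul hne, roots_X_sub_C, Multiset.count_add, roots_pow, Multiset.count_nsmul]
    have := hb b hbm
    by_cases hbe : b = 1
    · subst hbe; simp only [Units.val_one, Multiset.count_singleton_self] at *; omega
    · have := hc' b hbm hbe; omega
  have hcu : (mat f (g ^ N) - 1) ^ 3 = 0 := by
    refine H.unip (H.dvd (pow_ne_zero _ h0) fun b hbm => ?_)
    rw [roots_pow, Multiset.count_nsmul]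
    have := hb b hbm
    by_cases hbe : b = 1
    · subst hbe; omega
    · have := hc' b hbm hbe; omega
  obtain ⟨w, hw⟩ := H.rank 1 2 (P ^ 2) hdvd hc (N := N) (j := 2)
    (by rw [Units.val_one, ← mul_pow, hP])
  obtain ⟨i1, i2⟩ := mat_inv f (g ^ N)
  have := top_eq_zero_two i1 i2 (mat_Q f _) hcu hw
  refine pow_eq_one_of_mat f ?_
  rw [mul_comm, pow_mul, mat_pow f g N]
  have e : (mat f (g ^ N) - 1) ^ 2 = mat f (g ^ N) ^ 2 - 1 := by
    have h2 : (2 : K) = 0 := CharTwo.two_eq_zero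
    have : (mat f (g ^ N) - 1) ^ 2 = mat f (g ^ N) ^ 2 - 1 - (2 : K) • (mat f (g ^ N) - 1) := by
      rw [two_smul]; noncomm_ring
    rw [this, h2, zero_smul, sub_zero]
  rw [e, sub_eq_zero] at this
  exact this

theorem inv_three [CharP K 3] (e : Kˣ) (he2 : e ^ 2 = 1) (he : e ≠ 1) (h : ∀ a ∈ R, a = 1 ∨ a = e)
    (hc : R.count 1 ≤ 3) (hc' : R.count e ≤ 4) : g ^ 6 = 1 := by
  have h2 : (2 : K) ≠ 0 := by
    intro h
    have := (CharP.cast_eq_zero_iff K 3 2).1 (by simpa using h)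
    omega
  have hee : (e : K) = -1 := by
    have h1 : ((e : K) - 1) * ((e : K) + 1) = 0 := by
      have : (e : K) ^ 2 = 1 := by rw [← Units.val_pow_eq_pow_val, he2, Units.val_one]
      linear_combination this
    rcases mul_eq_zero.1 h1 with h | h
    · exact absurd (Units.ext (by rw [Units.val_one]; linear_combination h)) he
    · linear_combination h
  have hfac : (Polynomial.X - Polynomial.C (e : K)) * (Polynomial.X - Polynomial.C 1) = (Polynomial.X ^ 2 - 1 : K[X]) := by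
    rw [hee, map_neg, map_one]; ring
  have hone : ((1 : Kˣ) : K) ≠ (e : K) := fun h => he (Units.ext h.symm)
  have hne : (Polynomial.X - Polynomial.C (e : K)) ^ 4 * (Polynomial.X - Polynomial.C (1 : K)) ^ 3 ≠ 0 :=
    mul_ne_zero (pow_ne_zero _ (X_sub_C_ne_zero _)) (pow_ne_zero _ (X_sub_C_ne_zero _))
  have hdvd : (mat f g).charpoly ∣ (Polynomial.X - Polynomial.C (e : K)) ^ (3 + 1) * (Polynomial.X - Polynomial.C 1) ^ 3 := by
    refine H.dvd hne fun b hbm => ?_
    rw [roots_mul hne, roots_pow, roots_pow, roots_X_sub_C, roots_X_sub_C, Multiset.count_add,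
      Multiset.count_nsmul, Multiset.count_nsmul]
    rcases h b hbm with rfl | rfl
    · simp only [Units.val_one, Multiset.count_singleton_self]; omega
    · simp only [Multiset.count_singleton_self]; omega
  have hfour : (mat f (g ^ 2) - 1) ^ (3 + 1) = 0 := by
    refine H.unip (hdvd.trans ?_)
    rw [← hfac, mul_pow]
    exact mul_dvd_mul dvd_rfl (pow_dvd_pow _ (by norm_num))
  obtain ⟨w, hw⟩ := H.rank e 3 _ hdvd hc' (N := 2) (j := 3) (by rw [← mul_pow, hfac])
  obtain ⟨i1, i2⟩ := mat_inv f (g ^ 2)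
  have := top_eq_zero_odd i1 i2 (mat_Q f _) h2 (by decide) hfour hw
  refine pow_eq_one_of_mat f ?_
  rw [show 6 = 2 * 3 from rfl, pow_mul, mat_pow f g 2]
  have e3 : (mat f (g ^ 2) - 1) ^ 3 = mat f (g ^ 2) ^ 3 - 1 := by
    have h3 : (3 : K) = 0 := by exact_mod_cast CharP.cast_eq_zero K 3
    have : (mat f (g ^ 2) - 1) ^ 3 = mat f (g ^ 2) ^ 3 - 1 - (3 : K) • (mat f (g ^ 2) ^ 2 - mat f (g ^ 2)) := by
      rw [show (3 : K) = 1 + 1 + 1 by norm_num, add_smul, add_smul, one_smul]; noncomm_ring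
    rw [this, h3, zero_smul, sub_zero]
  rw [e3, sub_eq_zero] at this
  exact this

end Diag

theorem exists_diag [Finite F] [IsAlgClosed K] [DecidableEq K] (f : F →+* K) (p a : ℕ) [Fact p.Prime] [CharP K p]
    (hF : Nat.card F = p ^ a) (g : ↥(chevG2.group F)) {c : Fin chevG2.rank → Kˣ}
    (hd : HasDiag (mat f g) fun i => (wd c i : K)) :
    ∃ R : Multiset Kˣ, Diag f g R ∧ Kind (p ^ a) R := by
  refine ⟨ms (wd c 1) (wd c 2), ⟨c, hd, Multiset.map_congr rfl fun i _ => (wd_rv c i).symm⟩, ?_⟩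
  have hinj : Function.Injective fun x : Kˣ => x ^ (p ^ a) := by
    intro x y h
    refine Units.ext ((iterateFrobenius K p a).injective ?_)
    simp only [iterateFrobenius_def, ← Units.val_pow_eq_pow_val]
    exact congrArg Units.val h
  refine kind hinj (Nat.one_le_pow _ _ (Fact.out : p.Prime).pos) _ _ ?_
  set σ := iterateFrobenius K p a with hσ
  have hσf : σ.comp f = f := by
    have := Fintype.ofFinite F
    ext x
    rw [RingHom.comp_apply, hσ, iterateFrobenius_def, ← map_pow, ← hF, Nat.card_eq_fintype_card,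
      FiniteField.pow_card]
  set R := Finset.univ.val.map (wd c) with hRdef
  have hR : R = ms (wd c 1) (wd c 2) := Multiset.map_congr rfl fun i _ => wd_rv c i
  have hcp : (mat f g).charpoly = ((R.map Units.val).map fun a => Polynomial.X - Polynomial.C a).prod :=
    Diag.charpoly ⟨c, hd, hRdef⟩
  have hfix : (mat f g).charpoly.map σ = (mat f g).charpoly := by
    have e : mat f g = ((seven g : GL (Fin 7) F) : M7 F).map f := by rw [mat, seven_map]; rfl
    rw [e, Matrix.charpoly_map, Polynomial.map_map, hσf]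
  have h1 : (mat f g).charpoly.map σ =
      (((R.map Units.val).map σ).map fun a => Polynomial.X - Polynomial.C a).prod := by
    rw [hcp, Polynomial.map_multiset_prod]
    simp only [Multiset.map_map]
    refine congrArg Multiset.prod (Multiset.map_congr rfl fun a _ => ?_)
    simp
  rw [hfix] at h1
  have h2 := (roots_of_diag _ h1).symm.trans (roots_of_diag _ hcp)
  rw [← hR, Stable]
  refine Multiset.map_injective Units.val_injective ?_
  rw [Multiset.map_map]
  rw [Multiset.map_map] at h2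
  refine Eq.trans (Multiset.map_congr rfl fun b _ => ?_) h2
  simp [hσ, iterateFrobenius_def]

/-- the exponents -/
theorem spectrum_upper [Fintype F] (p a : ℕ) (hp : p.Prime) (ha : 1 ≤ a) (hF : Fintype.card F = p ^ a)
    (g : ↥(chevG2.group F)) :
    (∃ N, (N = (p ^ a) ^ 2 - 1 ∨ N = (p ^ a) ^ 2 + p ^ a + 1 ∨ N = (p ^ a) ^ 2 - p ^ a + 1) ∧ g ^ N = 1) ∨
    (∃ N, (N = p ^ a - 1 ∨ N = p ^ a + 1) ∧ g ^ (p * N) = 1) ∨
    (p ≠ 2 ∧ g ^ (2 * p) = 1) ∨ (p ≠ 2 ∧ g ^ 2 = 1) ∨ g ^ p = 1 ∨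
    ((p = 3 ∨ p = 5) ∧ g ^ (p ^ 2) = 1) ∨ (p = 2 ∧ g ^ 8 = 1) ∨ (p = 2 ∧ g ^ 12 = 1) := by
  classical
  have := Fact.mk hp
  obtain ⟨n, hn, e⟩ := FiniteField.card F (ringChar F)
  have hchar : ringChar F = p := by
    have h1 : p ∣ ringChar F ^ (n : ℕ) := by rw [← e, hF]; exact dvd_pow_self p (by omega)
    exact ((Nat.prime_dvd_prime_iff_eq hp hn).1 (hp.dvd_of_dvd_pow h1)).symm
  have : CharP F p := hchar ▸ ringChar.charP F
  have : CharP (AlgebraicClosure F) p :=
    charP_of_injective_algebraMap (algebraMap F (AlgebraicClosure F)).injective p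
  set f := algebraMap F (AlgebraicClosure F)
  rcases shape f p g with h | h | ⟨c, hd⟩
  · exact Or.inr (Or.inr (Or.inr (Or.inr (Or.inr (Or.inr (Or.inl h))))))
  · exact Or.inr (Or.inr (Or.inr (Or.inl h)))
  obtain ⟨R, H, hK⟩ := exists_diag f p a (by rw [Nat.card_eq_fintype_card, hF]) g hd
  have hq2 : 2 ≤ p ^ a := le_trans hp.two_le (by simpa using Nat.pow_le_pow_right hp.pos ha)
  have hsq : p ^ a < (p ^ a) ^ 2 := by nlinarith
  have hcard : ∀ b, R.count b ≤ 7 := fun b => (Multiset.count_le_card b R).trans H.card.le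
  have hK2 : ∀ e : (AlgebraicClosure F)ˣ, e ≠ 1 → e ^ 2 = 1 → p ≠ 2 := by
    rintro e he he2 rfl
    refine he (Units.ext ?_)
    have h1 : ((e : AlgebraicClosure F) - 1) ^ 2 = 0 := by
      rw [sub_pow_char, one_pow, ← Units.val_pow_eq_pow_val, he2, Units.val_one, sub_self]
    rw [Units.val_one]
    exact sub_eq_zero.1 ((pow_eq_zero_iff two_ne_zero).1 h1)
  rcases hK with ⟨N, hN, h, hc⟩ | ⟨e, he, he2, h, hc, hc'⟩ | h | ⟨e, he, he2, h, hc, hc'⟩ |
    ⟨N, hN, h, hc, hc'⟩ | ⟨N, hN, h, h3, hc⟩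
  · refine Or.inl ⟨N, hN, ?_⟩
    simpa using H.pow_one' p 0 (by omega) h (by simpa using hc)
  · refine Or.inl ⟨_, Or.inl rfl, H.signed ?_ (by omega) e ?_ h hc hc'⟩
    · intro h
      have hd : p ∣ 2 := (CharP.cast_eq_zero_iff (AlgebraicClosure F) p 2).1 (by simpa using h)
      exact hK2 e he he2 ((Nat.prime_dvd_prime_iff_eq hp Nat.prime_two).1 hd)
    · obtain ⟨k, hk⟩ : 2 ∣ (p ^ a) ^ 2 - 1 := by
        have : Odd ((p ^ a) ^ 2) := ((hp.odd_of_ne_two (hK2 e he he2)).pow).pow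
        obtain ⟨j, hj⟩ := this
        exact ⟨j, by omega⟩
      rw [hk, pow_mul, he2, one_pow]
  · have h' : ∀ b ∈ R, b ^ 1 = 1 := fun b hb => by rw [pow_one, h b hb]
    by_cases h7 : 7 ≤ p
    · refine Or.inr (Or.inr (Or.inr (Or.inr (Or.inl ?_))))
      simpa using H.pow_one' p 1 one_ne_zero h' fun b _ => (hcard b).trans (by simpa using h7)
    have : p = 2 ∨ p = 3 ∨ p = 5 := by
      have := hp.two_le
      interval_cases p <;> simp_all (config := {decide := true})
    rcases this with rfl | h35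
    · refine Or.inr (Or.inr (Or.inr (Or.inr (Or.inr (Or.inr (Or.inl ⟨rfl, ?_⟩))))))
      simpa using H.pow_one' 2 3 one_ne_zero h' fun b _ => (hcard b).trans (by norm_num)
    · refine Or.inr (Or.inr (Or.inr (Or.inr (Or.inr (Or.inl ⟨h35, ?_⟩)))))
      simpa using H.pow_one' p 2 one_ne_zero h' fun b _ => (hcard b).trans (by rcases h35 with rfl | rfl <;> norm_num)
  · have hp2 := hK2 e he he2
    refine Or.inr (Or.inr (Or.inl ⟨hp2, ?_⟩))
    by_cases h5 : 5 ≤ p
    · simpa using H.pow_one' p 1 two_ne_zero (fun b hb => by rcases h b hb with rfl | rfl <;> simp [he2])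
        fun b hb => by rcases h b hb with rfl | rfl <;> rw [pow_one] <;> omega
    · have h3 : p = 3 := by
        have := hp.two_le
        interval_cases p <;> simp_all (config := {decide := true})
      subst h3
      exact H.inv_three e he2 he h hc hc'
  · refine Or.inr (Or.inl ⟨N, hN, ?_⟩)
    by_cases hp2 : p = 2
    · subst hp2
      exact H.short_two (by omega) h hc hc'
    · have := hp.two_le
      rw [mul_comm]
      simpa using H.pow_one' p 1 (by omega) h fun b hb => by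
        rw [pow_one]
        by_cases hb1 : b = 1
        · subst hb1; omega
        · have := hc' b hb hb1; omega
  · by_cases hp2 : p = 2
    · subst hp2
      refine Or.inr (Or.inr (Or.inr (Or.inr (Or.inr (Or.inr (Or.inr ⟨rfl, ?_⟩))))))
      simpa using H.pow_one' 2 2 (by norm_num : 3 ≠ 0) h3 fun b hb => (hc b hb).trans (by norm_num)
    · refine Or.inr (Or.inl ⟨N, hN, ?_⟩)
      have := hp.two_le
      rw [mul_comm]
      simpa using H.pow_one' p 1 (by omega) h fun b hb => by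
        have := hc b hb
        rw [pow_one]; omega

end Cfsg.Agent.Lib.G2Seven
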